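import Groth.Agent.Lib.TorusPts.Affine
import Mathlib.RingTheory.Etale.Field
import Mathlib.RingTheory.TensorProduct.MonoidAlgebra
import Mathlib.RingTheory.Flat.Basic
import Mathlib.RingTheory.Flat.FaithfullyFlat.Basic
import Mathlib.RingTheory.Unramified.Field
import Mathlib.FieldTheory.SeparablyGenerated
import Mathlib.FieldTheory.IsAlgClosed.AlgebraicClosure
import Mathlib.RingTheory.Nilpotent.Lemmas
import Mathlib.RingTheory.EssentialFiniteness

/-!
# The coordinate ring of a torus over a field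
-/

universe u

open CategoryTheory CategoryTheory.Limits MonoidalCategory CartesianMonoidalCategory MonObj AlgebraicGeometry
open scoped TensorProduct

namespace GrothLib.TorusPts

section
variable {A : Type u} [CommRing A] (T : Over (Spec (CommRingCat.of A))) [IsAffine T.left]

/-- The structure map of the coordinate ring. -/
noncomputable def strMap : A →+* Γ(T.left, ⊤) := (Spec.preimage (T.left.isoSpec.inv ≫ T.hom)).hom

/-- The point attached to a ring map. -/
noncomputable def mkPt {C : Type u} [CommRing C] {i : A →+* C} (φ : Γ(T.left, ⊤) →+* C)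
    (hφ : φ.comp (strMap T) = i) : Pts T i :=
  Over.homMk (Spec.map (CommRingCat.ofHom φ) ≫ T.left.isoSpec.inv) (by
    show (Spec.map (CommRingCat.ofHom φ) ≫ T.left.isoSpec.inv) ≫ T.hom = Spec.map (CommRingCat.ofHom i)
    rw [Category.assoc, ← Spec.map_preimage (T.left.isoSpec.inv ≫ T.hom), ← Spec.map_comp, ← hφ]
    rfl)

variable [GrpObj T]

theorem ev_mkPt {C : Type u} [CommRing C] {i : A →+* C} (φ : Γ(T.left, ⊤) →+* C)
    (hφ : φ.comp (strMap T) = i) : (ev (mkPt T φ hφ)).hom = φ := by
  show (Spec.preimage ((Spec.map (CommRingCat.ofHom φ) ≫ T.left.isoSpec.inv) ≫ T.left.isoSpec.hom)).hom = φ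
  rw [Category.assoc, Iso.inv_hom_id, Category.comp_id, Spec.preimage_map]
  rfl

variable {T}

theorem ev_comp_strMap {C : Type u} [CommRing C] {i : A →+* C} (x : Pts T i) : (ev x).hom.comp (strMap T) = i := by
  show (Spec.preimage (T.left.isoSpec.inv ≫ T.hom) ≫ ev x).hom = _
  have h : Spec.preimage (T.left.isoSpec.inv ≫ T.hom) ≫ ev x = CommRingCat.ofHom i := by
    apply Spec.map_injective
    rw [ev, Spec.map_comp, Spec.map_preimage, Spec.map_preimage, Category.assoc, Iso.hom_inv_id_assoc]
    exact Over.w x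
  rw [h]
  rfl

theorem ev_injective {C : Type u} [CommRing C] {i : A →+* C} (x y : Pts T i) (h : ev x = ev y) : x = y := by
  apply Over.OverMorphism.ext
  have h1 := congrArg Spec.map h
  rw [ev, ev, Spec.map_preimage, Spec.map_preimage] at h1
  exact (cancel_mono T.left.isoSpec.hom).mp h1

end

variable {k : Type u} [Field k] (T : Over (Spec (CommRingCat.of k))) [GrpObj T]

/-- A reduced group algebra. -/
theorem isReduced_addMonoidAlgebra {R : Type u} [CommRing R] [IsReduced R] (M : Type) [AddCommGroup M]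
    [TwoUniqueSums M] : IsReduced (AddMonoidAlgebra R M) := by
  refine ⟨fun x hx => ?_⟩
  refine AddMonoidAlgebra.coeff_injective (Finsupp.ext fun m => ?_)
  suffices x.coeff m ∈ nilradical R by simpa [nilradical_eq_zero R] using this
  rw [nilradical_eq_sInf, Submodule.mem_sInf]
  intro P hP
  haveI : Ideal.IsPrime P := hP
  let f := AddMonoidAlgebra.mapRingHom M (Ideal.Quotient.mk P)
  have h0 : f x = 0 := (hx.map f).eq_zero
  have h1 := congrArg (fun y : AddMonoidAlgebra (R ⧸ P) M => y.coeff m) h0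
  rw [← Ideal.Quotient.eq_zero_iff_mem]
  simpa [f] using h1

/-- The coordinate ring of an isotrivial torus over a field. -/
theorem exists_model {r : ℕ} (hT : TwC.Locally (Spec (CommRingCat.of k)) .finiteEtale
      (fun S' g => Red.IsSplitTorusWith (Fin r → ℤ) (Red.bc g T))) :
    ∃ _ : IsAffine T.left, ∀ [Algebra k Γ(T.left, ⊤)], algebraMap k Γ(T.left, ⊤) = strMap T →
      IsDomain Γ(T.left, ⊤) ∧ Algebra.FiniteType k Γ(T.left, ⊤) ∧
      ∀ (p : ℕ), p.Prime → CharP k p → ∀ (F : Type u) [Field F] [Algebra k F] [Algebra Γ(T.left, ⊤) F]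
        [IsScalarTower k Γ(T.left, ⊤) F] [IsFractionRing Γ(T.left, ⊤) F] (s : Finset F),
        LinearIndepOn k id (s : Set F) → LinearIndepOn k (fun x => x ^ p) (s : Set F) := by
  classical
  haveI : Nonempty (Spec (CommRingCat.of k)) := ⟨IsLocalRing.closedPoint k⟩
  obtain ⟨A₁, _, _, hnt, het, hfin, hsplit⟩ := exists_splitting hT
  haveI := hnt
  haveI := het
  haveI := hfin
  obtain ⟨q, hq⟩ := Ideal.exists_maximal A₁
  let L := A₁ ⧸ q
  letI : Field L := Ideal.Quotient.field q
  haveI : Algebra.FormallyUnramified k L :=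
    Algebra.FormallyUnramified.of_surjective (Ideal.Quotient.mkₐ k q) Ideal.Quotient.mk_surjective
  haveI : Module.Finite k L := Module.Finite.of_surjective (Ideal.Quotient.mkₐ k q).toLinearMap Ideal.Quotient.mk_surjective
  obtain ⟨e⟩ := hsplit L ⟨Ideal.Quotient.mkₐ k q⟩
  haveI : IsAffine T.left := isAffine_of_splitting e
  refine ⟨inferInstance, @fun algB halg => ?_⟩
  letI := algB
  let B := Γ(T.left, ⊤)
  let M := Fin r → ℤ
  let C₀ := AddMonoidAlgebra L M
  let i₀ : k →+* C₀ := algebraMap k C₀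
  let j₀ : L →+* C₀ := algebraMap L C₀
  have hj₀ : j₀.comp (algebraMap k L) = i₀ := (IsScalarTower.algebraMap_eq k L C₀).symm
  let x₀ : Pts T i₀ := (coord e j₀ hj₀).symm (AddMonoidAlgebra.of L M)
  let ι₀ : B →ₐ[k] C₀ := { (ev x₀).hom with
    commutes' := fun a => (RingHom.congr_fun halg a ▸ RingHom.congr_fun (ev_comp_strMap x₀) a) }
  let C₁ := L ⊗[k] B
  let inr : B →ₐ[k] C₁ := Algebra.TensorProduct.includeRight
  let j₁ : L →+* C₁ := algebraMap L C₁
  let i₁ : k →+* C₁ := algebraMap k C₁
  have hj₁ : j₁.comp (algebraMap k L) = i₁ := (IsScalarTower.algebraMap_eq k L C₁).symm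
  have hinr : inr.toRingHom.comp (strMap T) = i₁ := by
    rw [← halg]; exact inr.comp_algebraMap
  let x₁ : Pts T i₁ := mkPt T inr.toRingHom hinr
  let φ : C₀ →ₐ[L] C₁ := AddMonoidAlgebra.lift L C₁ M (coord e j₁ hj₁ x₁)
  let Ψ : C₁ →ₐ[L] C₀ := Algebra.TensorProduct.lift (Algebra.ofId L C₀) ι₀ fun _ _ => Commute.all _ _
  have hφ0 : φ.toRingHom.comp i₀ = i₁ := by
    rw [← hj₀, ← RingHom.comp_assoc]
    exact (congrArg (·.comp (algebraMap k L)) φ.comp_algebraMap).trans hj₁
  have hpullφ : pull φ.toRingHom hφ0 x₀ = x₁ := by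
    apply (coord e j₁ hj₁).injective
    rw [coord_pull e j₀ j₁ hj₀ hj₁ φ.toRingHom hφ0 φ.comp_algebraMap x₀, MulEquiv.apply_symm_apply]
    exact MonoidHom.ext fun m => AddMonoidAlgebra.lift_of _ m
  have hφι : ∀ b : B, φ (ι₀ b) = inr b := by
    intro b
    have h := congrArg (fun y : Pts T i₁ => ev y b) hpullφ
    simp only [ev_pull] at h
    exact h.trans (RingHom.congr_fun (ev_mkPt T inr.toRingHom hinr) b)
  have hΨ0 : Ψ.toRingHom.comp i₁ = i₀ := by
    rw [← hj₁, ← RingHom.comp_assoc]
    exact (congrArg (·.comp (algebraMap k L)) Ψ.comp_algebraMap).trans hj₀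
  have hpullΨ : pull Ψ.toRingHom hΨ0 x₁ = x₀ := by
    refine ev_injective _ _ ?_
    rw [ev_pull]
    refine CommRingCat.hom_ext (RingHom.ext fun b => ?_)
    show Ψ ((ev x₁).hom b) = ι₀ b
    rw [ev_mkPt T inr.toRingHom hinr]
    show Ψ ((1 : L) ⊗ₜ b) = ι₀ b
    rw [Algebra.TensorProduct.lift_tmul, map_one, _root_.one_mul]
  have hΨφ : ∀ m, Ψ (φ (AddMonoidAlgebra.of L M m)) = AddMonoidAlgebra.of L M m := by
    intro m
    have h := coord_pull e j₁ j₀ hj₁ hj₀ Ψ.toRingHom hΨ0 Ψ.comp_algebraMap x₁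
    rw [hpullΨ, MulEquiv.apply_symm_apply] at h
    rw [show φ (AddMonoidAlgebra.of L M m) = coord e j₁ hj₁ x₁ m from AddMonoidAlgebra.lift_of _ m]
    exact (DFunLike.congr_fun h m).symm
  have hΨφ' : Ψ.comp φ = AlgHom.id L C₀ := by
    refine AddMonoidAlgebra.algHom_ext (fun m => ?_) (Subsingleton.elim _ _)
    exact hΨφ (Multiplicative.ofAdd m)
  have hφΨ : φ.comp Ψ = AlgHom.id L C₁ :=
    Algebra.TensorProduct.ext_ring (AlgHom.ext fun b => by
      show φ (Ψ ((1 : L) ⊗ₜ b)) = (1 : L) ⊗ₜ b
      rw [Algebra.TensorProduct.lift_tmul, map_one, _root_.one_mul, hφι]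
      rfl)
  have hinr_inj : Function.Injective inr :=
    Algebra.TensorProduct.includeRight_injective (algebraMap k L).injective
  have hι : Function.Injective ι₀ := fun a b h => hinr_inj (by rw [← hφι, ← hφι, h])
  haveI : IsDomain C₀ := inferInstance
  haveI hdom : IsDomain B := hι.isDomain ι₀.toRingHom
  refine ⟨hdom, ?_, ?_⟩
  · -- finite type
    haveI : AddMonoid.FG M := AddGroup.fg_iff_addMonoid_fg.mp (Module.Finite.iff_addGroup_fg.mp inferInstance)
    haveI : Algebra.FiniteType L C₁ := Algebra.FiniteType.of_surjective φ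
      (fun c => ⟨Ψ c, AlgHom.congr_fun hφΨ c⟩)
    obtain ⟨t, ht⟩ := (inferInstance : Algebra.FiniteType L C₁).out
    choose tS htS using fun c : C₁ => TensorProduct.exists_finset c
    let gens : Finset B := t.biUnion fun c => (tS c).image Prod.snd
    let B' : Subalgebra k B := Algebra.adjoin k (gens : Set B)
    have hsurj : Function.Surjective (Algebra.TensorProduct.map (AlgHom.id L L) B'.val) := by
      rw [← AlgHom.range_eq_top, eq_top_iff, ← ht]
      refine Algebra.adjoin_le fun c hc => ?_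
      rw [htS c]
      refine sum_mem fun p hp => ?_
      refine ⟨p.1 ⊗ₜ ⟨p.2, Algebra.subset_adjoin ?_⟩, rfl⟩
      exact Finset.mem_biUnion.mpr ⟨c, hc, Finset.mem_image.mpr ⟨p, hp, rfl⟩⟩
    have h2 : Function.Surjective (LinearMap.lTensor L B'.val.toLinearMap) := hsurj
    have h3 : Function.Surjective B'.val.toLinearMap :=
      (Module.FaithfullyFlat.lTensor_surjective_iff_surjective k L _).mp h2
    refine ⟨⟨gens, eq_top_iff.mpr fun b _ => ?_⟩⟩
    obtain ⟨⟨b', hb'⟩, rfl⟩ := h3 b
    exact hb'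
  · intro p hp hk F _ _ _ _ _ s hs
    haveI : Fact p.Prime := ⟨hp⟩
    haveI : CharP k p := hk
    -- clear denominators
    obtain ⟨d, hd⟩ := IsLocalization.exist_integer_multiples_of_finset (nonZeroDivisors B) s
    choose b hb using hd
    have hd0 : algebraMap B F d ≠ 0 := IsFractionRing.to_map_ne_zero_of_mem_nonZeroDivisors d.2
    have hbind : LinearIndependent k (fun x : s => b x x.2) := by
      rw [linearIndependent_iff']
      intro u g hg x hx
      have h1 := congrArg (algebraMap B F) hg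
      rw [map_sum, map_zero] at h1
      have h2 : ∑ y ∈ u, g y • (algebraMap B F d * (y : F)) = 0 := by
        refine Eq.trans (Finset.sum_congr rfl fun y _ => ?_) h1
        rw [Algebra.smul_def (g y) (b y y.2), map_mul, ← IsScalarTower.algebraMap_apply, hb, Algebra.smul_def,
          Algebra.smul_def]
      simp only [← mul_smul_comm, ← Finset.mul_sum] at h2
      exact linearIndependent_iff'.mp hs u g ((mul_eq_zero.mp h2).resolve_left hd0) x hx
    let Kb := AlgebraicClosure k
    have h0 : LinearIndependent Kb (fun x : s => (1 : Kb) ⊗ₜ[k] ι₀ (b x x.2)) :=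
      Module.Flat.linearIndependent_one_tmul (S := Kb) (hbind.map' ι₀.toLinearMap (LinearMap.ker_eq_bot.mpr hι))
    haveI : IsReduced (Kb ⊗[k] L) := by
      haveI : Algebra.FormallyUnramified Kb (Kb ⊗[k] L) := inferInstance
      exact Algebra.FormallyUnramified.isReduced_of_field Kb _
    haveI : IsReduced (AddMonoidAlgebra (Kb ⊗[k] L) M) := isReduced_addMonoidAlgebra M
    let R := Kb ⊗[k] L
    let g₁ : C₀ →ₐ[k] AddMonoidAlgebra R M :=
      { AddMonoidAlgebra.mapRingHom M (Algebra.TensorProduct.includeRight : L →ₐ[k] R).toRingHom with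
        commutes' := fun a => by
          show AddMonoidAlgebra.mapRingHom M _ (algebraMap k C₀ a) = algebraMap k (AddMonoidAlgebra R M) a
          rw [AddMonoidAlgebra.coe_algebraMap, AddMonoidAlgebra.coe_algebraMap]
          simp [Function.comp_apply]
          rfl }
    let f₁ : Kb →ₐ[k] AddMonoidAlgebra R M :=
      ((Algebra.ofId R (AddMonoidAlgebra R M)).restrictScalars k).comp Algebra.TensorProduct.includeLeft
    let Θ : Kb ⊗[k] C₀ →ₐ[k] AddMonoidAlgebra R M := Algebra.TensorProduct.lift f₁ g₁ fun a b => (_root_.mul_comm (f₁ a) (g₁ b) : f₁ a * g₁ b = g₁ b * f₁ a)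
    let h₁ : R →ₐ[k] Kb ⊗[k] C₀ := Algebra.TensorProduct.map (AlgHom.id k Kb) (IsScalarTower.toAlgHom k L C₀)
    let Γ' : AddMonoidAlgebra R M →+* Kb ⊗[k] C₀ := AddMonoidAlgebra.liftNCRingHom h₁.toRingHom
      ((Algebra.TensorProduct.includeRight : C₀ →ₐ[k] Kb ⊗[k] C₀).toMonoidHom.comp (AddMonoidAlgebra.of L M))
      fun _ _ => _root_.mul_comm (G := Kb ⊗[k] C₀) _ _
    have hΓΘ : ∀ z, Γ' (Θ z) = z := by
      intro z
      induction z using TensorProduct.induction_on with
      | zero => rw [map_zero, map_zero]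
      | tmul a c =>
        induction c using AddMonoidAlgebra.induction_linear with
        | zero => rw [TensorProduct.tmul_zero, map_zero, map_zero]
        | single m l =>
          have h1 : Θ (a ⊗ₜ AddMonoidAlgebra.single m l) = AddMonoidAlgebra.single m (a ⊗ₜ[k] l) := by
            show f₁ a * AddMonoidAlgebra.mapRingHom M _ (AddMonoidAlgebra.single m l) = _
            simp [f₁, Algebra.ofId_apply, AddMonoidAlgebra.single_mul_single]
            rw [show (Algebra.TensorProduct.includeLeft a : Kb ⊗[k] L) = a ⊗ₜ 1 from rfl,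
              Algebra.TensorProduct.tmul_mul_tmul, _root_.mul_one, _root_.one_mul]
          rw [h1]
          show AddMonoidAlgebra.liftNC _ _ (AddMonoidAlgebra.single m (a ⊗ₜ[k] l)) = _
          rw [AddMonoidAlgebra.liftNC_single]
          show h₁ (a ⊗ₜ l) * ((1 : Kb) ⊗ₜ[k] AddMonoidAlgebra.single m (1 : L)) = _
          rw [show h₁ (a ⊗ₜ[k] l) = a ⊗ₜ[k] algebraMap L C₀ l from rfl, Algebra.TensorProduct.tmul_mul_tmul]
          simp [AddMonoidAlgebra.single_mul_single, C₀]
        | add x y hx hy => rw [TensorProduct.tmul_add, map_add, map_add, hx, hy]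
      | add x y hx hy => rw [map_add, map_add, hx, hy]
    haveI : IsReduced (Kb ⊗[k] C₀) :=
      isReduced_of_injective Θ.toRingHom (Function.LeftInverse.injective (g := Γ') hΓΘ)
    haveI : CharP Kb p := charP_of_injective_algebraMap (algebraMap k Kb).injective p
    haveI : CharP (Kb ⊗[k] C₀) p := charP_of_injective_ringHom
      (f := (Algebra.TensorProduct.includeLeft : Kb →ₐ[k] Kb ⊗[k] C₀).toRingHom)
      (Algebra.TensorProduct.includeLeft_injective (algebraMap k C₀).injective) p
    haveI : ExpChar (Kb ⊗[k] C₀) p := ExpChar.prime hp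
    rw [LinearIndepOn, linearIndependent_iff']
    intro u g hg x hx
    choose nu hμ using fun y : s => IsAlgClosed.exists_pow_nat_eq (algebraMap k Kb (g y)) hp.pos
    have hsum : ∑ y ∈ u, g y • ι₀ (b y y.2) ^ p = 0 := by
      have h1 : ∑ y ∈ u, g y • b y y.2 ^ p = 0 := by
        refine IsFractionRing.injective B F ?_
        rw [map_sum, map_zero]
        have h2 : algebraMap B F d ^ p * ∑ y ∈ u, g y • (y : F) ^ p = 0 := by rw [hg, mul_zero]
        refine Eq.trans ?_ h2
        rw [Finset.mul_sum]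
        refine Finset.sum_congr rfl fun y _ => ?_
        rw [Algebra.smul_def, map_mul, map_pow, ← IsScalarTower.algebraMap_apply, hb, Algebra.smul_def, Algebra.smul_def,
          mul_pow]
        exact (mul_left_comm _ _ _)
      simpa using congrArg ι₀ h1
    have hzero : ∑ y ∈ u, nu y • ((1 : Kb) ⊗ₜ[k] ι₀ (b y y.2)) = 0 := by
      refine IsReduced.eq_zero _ ⟨p, ?_⟩
      refine (sum_pow_char (R := Kb ⊗[k] C₀) p u _).trans ?_
      refine Eq.trans ?_ ((congrArg (fun c => (1 : Kb) ⊗ₜ[k] c) hsum).trans (TensorProduct.tmul_zero _ _))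
      rw [TensorProduct.tmul_sum]
      refine Finset.sum_congr rfl fun y _ => ?_
      rw [TensorProduct.smul_tmul', Algebra.TensorProduct.tmul_pow, TensorProduct.tmul_smul, TensorProduct.smul_tmul',
        smul_eq_mul, _root_.mul_one, hμ, Algebra.algebraMap_eq_smul_one]
    have h1 := linearIndependent_iff'.mp h0 u nu hzero x hx
    have h2 : algebraMap k Kb (g x) = 0 := by rw [← hμ x, h1, zero_pow hp.pos.ne']
    exact (algebraMap k Kb).injective (h2.trans (map_zero _).symm)

end GrothLib.TorusPts
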