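import Groth.Agent.Lib.TorusPts.Coords
import Groth.Agent.Lib.DiagGrp.ChartCover
import Groth.Agent.Lib.EtSite.FpqcDescent
import Groth.Prelude.Def_TwC

/-!
# Affine points and splittings of isotrivial tori
-/

universe u

open CategoryTheory CategoryTheory.Limits MonoidalCategory CartesianMonoidalCategory MonObj AlgebraicGeometry

namespace GrothLib.TorusPts

variable {A : Type u} [CommRing A] {T : Over (Spec (CommRingCat.of A))} [GrpObj T] [IsAffine T.left]

/-- The ring map of a point of an affine scheme. -/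
noncomputable def ev {C : Type u} [CommRing C] {i : A →+* C} (x : Pts T i) : Γ(T.left, ⊤) ⟶ CommRingCat.of C :=
  Spec.preimage (x.left ≫ T.left.isoSpec.hom)

theorem ev_pull {C C' : Type u} [CommRing C] [CommRing C'] {i : A →+* C} {i' : A →+* C'} (h : C →+* C')
    (hh : h.comp i = i') (x : Pts T i) : ev (pull h hh x) = ev x ≫ CommRingCat.ofHom h := by
  apply Spec.map_injective
  rw [ev, Spec.map_preimage, Spec.map_comp, ev, Spec.map_preimage, pull_left, Category.assoc]

/-- A point whose ring map lands in a subring is defined over it. -/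
theorem exists_pull_eq {C C' : Type u} [CommRing C] [CommRing C'] {i : A →+* C} {i' : A →+* C'} (h : C →+* C')
    (hh : h.comp i = i') (hinj : Function.Injective h) (y : Pts T i') (hy : ∀ b, ev y b ∈ h.range) :
    ∃ x : Pts T i, pull h hh x = y := by
  choose φ hφ using hy
  let ψ : Γ(T.left, ⊤) ⟶ CommRingCat.of C := CommRingCat.ofHom
    { toFun := φ
      map_one' := hinj (by rw [hφ, map_one, map_one])
      map_mul' := fun a b => hinj (by rw [map_mul h, hφ, hφ, hφ, map_mul])
      map_zero' := hinj (by rw [hφ, map_zero, map_zero])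
      map_add' := fun a b => hinj (by rw [map_add h, hφ, hφ, hφ, map_add]) }
  have hy' : Spec.map (CommRingCat.ofHom h) ≫ Spec.map ψ ≫ T.left.isoSpec.inv = y.left := by
    rw [← Spec.map_comp_assoc, show ψ ≫ CommRingCat.ofHom h = ev y from CommRingCat.hom_ext (RingHom.ext hφ), ev,
      Spec.map_preimage, Category.assoc, Iso.hom_inv_id]
    exact Category.comp_id _
  have hw : (Spec.map ψ ≫ T.left.isoSpec.inv) ≫ T.hom = Spec.map (CommRingCat.ofHom i) := by
    rw [Category.assoc, ← Spec.map_preimage (T.left.isoSpec.inv ≫ T.hom), ← Spec.map_comp]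
    refine congrArg Spec.map (CommRingCat.hom_ext (RingHom.ext fun a => hinj ?_))
    have h1 : Spec.preimage (T.left.isoSpec.inv ≫ T.hom) ≫ ψ ≫ CommRingCat.ofHom h = CommRingCat.ofHom i' := by
      apply Spec.map_injective
      rw [Spec.map_comp, Spec.map_comp, Spec.map_preimage, Category.assoc, ← Category.assoc (Spec.map ψ),
        ← Category.assoc (Spec.map (CommRingCat.ofHom h)), hy']
      exact Over.w y
    exact (congrArg (fun q : CommRingCat.of A ⟶ CommRingCat.of C' => q a) h1).trans (RingHom.congr_fun hh a).symm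
  exact ⟨Over.homMk _ hw, Over.OverMorphism.ext hy'⟩

omit [IsAffine T.left] in
/-- An isotrivial torus is split by a finite étale algebra. -/
theorem exists_splitting [Nonempty (Spec (CommRingCat.of A))] {r : ℕ}
    (hT : TwC.Locally (Spec (CommRingCat.of A)) .finiteEtale
      (fun S' g => Red.IsSplitTorusWith (Fin r → ℤ) (Red.bc g T))) :
    ∃ (A₁ : Type u) (_ : CommRing A₁) (_ : Algebra A A₁), Nontrivial A₁ ∧ Algebra.Etale A A₁ ∧ Module.Finite A A₁ ∧
      ∀ (O : Type u) [CommRing O] [Algebra A O], Nonempty (A₁ →ₐ[A] O) →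
        Nonempty (Grp.mk (Red.bc (Spec.map (CommRingCat.ofHom (algebraMap A O))) T) ≅
          Grp.mk (Red.DS (Spec (CommRingCat.of O)) (Fin r → ℤ))) := by
  obtain ⟨S', f, _, _, _, hloc⟩ := hT
  obtain ⟨s', -⟩ := (inferInstance : Surjective f).surj (Classical.arbitrary _)
  obtain ⟨U, hsU, hUc, hsplit⟩ := hloc s'
  haveI : IsClosedImmersion U.ι := IsClosedImmersion.of_isPreimmersion _ (by rw [Scheme.Opens.range_ι]; exact hUc)
  haveI : IsFinite (U.ι ≫ f) := inferInstance
  haveI : Etale (U.ι ≫ f) := inferInstance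
  haveI : IsAffine (U : Scheme.{u}) := isAffine_of_isAffineHom (U.ι ≫ f)
  set φ := Spec.preimage ((U : Scheme.{u}).isoSpec.inv ≫ U.ι ≫ f)
  have hφ : Spec.map φ = (U : Scheme.{u}).isoSpec.inv ≫ U.ι ≫ f := Spec.map_preimage _
  letI alg : Algebra A Γ((U : Scheme.{u}), ⊤) := φ.hom.toAlgebra
  have hfin : IsFinite (Spec.map φ) := by rw [hφ]; infer_instance
  have het : Etale (Spec.map φ) := by rw [hφ]; infer_instance
  have hne : Nonempty (Spec (CommRingCat.of Γ((U : Scheme.{u}), ⊤))) := ⟨(U : Scheme.{u}).isoSpec.hom ⟨s', hsU⟩⟩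
  refine ⟨Γ((U : Scheme.{u}), ⊤), inferInstance, alg, PrimeSpectrum.nonempty_iff_nontrivial.mp hne,
    RingHom.etale_algebraMap.mp (HasRingHomProperty.Spec_iff.mp het), (IsFinite.SpecMap_iff φ).mp hfin,
    fun O _ _ ⟨ψ⟩ => ?_⟩
  let g : Spec (CommRingCat.of O) ⟶ (U : Scheme.{u}) :=
    Spec.map (CommRingCat.ofHom ψ.toRingHom) ≫ (U : Scheme.{u}).isoSpec.inv
  have hg : Spec.map (CommRingCat.ofHom (algebraMap A O)) = g ≫ U.ι ≫ f := by
    rw [Category.assoc, ← hφ, ← Spec.map_comp]
    exact congrArg Spec.map (CommRingCat.hom_ext (RingHom.ext fun a => (ψ.commutes a).symm))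
  have h : DiagGrp.HasChart (fun M _ => M = (Fin r → ℤ)) T (U.ι ≫ f) :=
    ⟨Fin r → ℤ, inferInstance, rfl, hsplit⟩
  have hterm : g ≫ Limits.IsTerminal.from specULiftZIsTerminal (U : Scheme.{u}) =
      Limits.IsTerminal.from specULiftZIsTerminal _ := specULiftZIsTerminal.hom_ext _ _
  obtain ⟨e⟩ := hsplit
  exact ⟨(DiagGrp.bcGrpComp T (U.ι ≫ f) g _ hg).trans (((Over.pullback g).mapGrp.mapIso e).trans
    (DiagGrp.bcGrpComp (Red.diag (ULift.{u} ℤ) (Fin r → ℤ)) (Limits.IsTerminal.from specULiftZIsTerminal _) g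
      (Limits.IsTerminal.from specULiftZIsTerminal _) hterm.symm).symm)⟩

omit [IsAffine T.left] in
/-- A torus split by a faithfully flat extension is affine. -/
theorem isAffine_of_splitting {O : Type u} [CommRing O] [Algebra A O] [Module.FaithfullyFlat A O] {M : Type}
    [AddCommGroup M] (e : Grp.mk (Red.bc (Spec.map (CommRingCat.ofHom (algebraMap A O))) T) ≅
      Grp.mk (Red.DS (Spec (CommRingCat.of O)) M)) : IsAffine T.left := by
  let g := Spec.map (CommRingCat.ofHom (algebraMap A O))
  haveI : Flat g := Flat.SpecMap_iff.mpr (RingHom.flat_algebraMap_iff.mpr inferInstance)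
  haveI : Surjective g := ⟨PrimeSpectrum.comap_surjective_of_faithfullyFlat⟩
  let i : (Red.bc g T) ≅ Red.DS (Spec (CommRingCat.of O)) M := (Grp.forget _).mapIso e
  haveI : IsAffine (Red.diag (ULift.{u} ℤ) M).left :=
    inferInstanceAs (IsAffine (Spec (CommRingCat.of (MonoidAlgebra (ULift.{u} ℤ) (Multiplicative M)))))
  haveI : IsAffineHom (Red.diag (ULift.{u} ℤ) M).hom := isAffineHom_of_isAffine _
  haveI : IsAffineHom (Red.DS (Spec (CommRingCat.of O)) M).hom :=
    inferInstanceAs (IsAffineHom (pullback.snd (Red.diag (ULift.{u} ℤ) M).hom _))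
  haveI : IsIso i.hom.left := inferInstanceAs (IsIso ((Over.forget _).map i.hom))
  haveI : IsAffineHom (pullback.snd T.hom g) := by
    show IsAffineHom (Red.bc g T).hom
    rw [← Over.w i.hom]
    infer_instance
  haveI : IsAffineHom T.hom :=
    MorphismProperty.of_pullback_snd_of_descendsAlong (P := @IsAffineHom) (Q := EtSite.fpqcCov)
      (show EtSite.fpqcCov g from ⟨⟨inferInstance, inferInstance⟩, inferInstance⟩) ‹_›
  exact isAffine_of_isAffineHom T.hom

end GrothLib.TorusPts
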