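import Mathlib.RingTheory.DedekindDomain.AdicValuation
import Mathlib.RingTheory.DiscreteValuationRing.Basic

/-!
# The completion of a discrete valuation ring inside the completed fraction field
-/

universe u

open IsDedekindDomain WithZero
open scoped WithZero

namespace GrothLib.TorusPts

variable {A : Type u} [CommRing A] [IsDomain A] [IsDiscreteValuationRing A] (v : HeightOneSpectrum A)

local notation "Kh" => v.adicCompletion (FractionRing A)
local notation "Ah" => v.adicCompletionIntegers (FractionRing A)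

variable {v} {π : A} (hπ : Irreducible π)

include hπ in
theorem asIdeal_eq : v.asIdeal = Ideal.span {π} := by
  rw [← hπ.maximalIdeal_eq]
  exact IsLocalRing.eq_maximalIdeal v.isMaximal

include hπ in
theorem valued_pi : Valued.v (algebraMap A Kh π) = exp (-1 : ℤ) := by
  rw [show algebraMap A Kh π = ((algebraMap A (FractionRing A) π : FractionRing A) : Kh) from rfl,
    HeightOneSpectrum.valuedAdicCompletion_eq_valuation', HeightOneSpectrum.valuation_of_algebraMap]
  exact v.intValuation_singleton hπ.ne_zero (asIdeal_eq hπ)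

include hπ in
theorem exists_pow_mul_mem (x : Kh) : ∃ (N : ℕ) (z : Ah), algebraMap A Kh π ^ N * x = z := by
  by_cases hx : x = 0
  · exact ⟨0, 0, by simp [hx]⟩
  have hvx : Valued.v x ≠ 0 := (Valuation.ne_zero_iff _).mpr hx
  refine ⟨(log (Valued.v x)).natAbs, ⟨_, ?_⟩, rfl⟩
  rw [HeightOneSpectrum.mem_adicCompletionIntegers, map_mul, map_pow, valued_pi hπ, ← exp_nsmul]
  calc exp ((log (Valued.v x)).natAbs • (-1 : ℤ)) * Valued.v x
      = exp ((log (Valued.v x)).natAbs • (-1 : ℤ)) * exp (log (Valued.v x)) := by rw [exp_log hvx]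
    _ = exp ((log (Valued.v x)).natAbs • (-1 : ℤ) + log (Valued.v x)) := (exp_add _ _).symm
    _ ≤ 1 := by
      rw [← exp_zero, exp_le_exp, nsmul_eq_mul]
      omega

include hπ in
theorem exists_mul_pow_of_le {z : Kh} {N : ℕ} (hz : Valued.v z ≤ Valued.v (algebraMap A Kh π ^ N)) :
    ∃ c : Ah, z = algebraMap A Kh π ^ N * c := by
  have h0 : Valued.v (algebraMap A Kh π ^ N) ≠ 0 := by
    rw [map_pow, valued_pi hπ]
    exact pow_ne_zero _ exp_ne_zero
  refine ⟨⟨z / algebraMap A Kh π ^ N, ?_⟩, ?_⟩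
  · rw [HeightOneSpectrum.mem_adicCompletionIntegers, map_div₀]
    exact (div_le_one₀ (zero_lt_iff.mpr h0)).mpr hz
  · show z = algebraMap A Kh π ^ N * (z / algebraMap A Kh π ^ N)
    rw [mul_div_cancel₀ _ ((Valuation.ne_zero_iff _).mp h0)]

include hπ in
theorem exists_sub_mem (z : Ah) (N : ℕ) :
    ∃ (a : A) (c : Ah), z - algebraMap A Ah a = algebraMap A Ah π ^ N * c := by
  have h0 : Valued.v (algebraMap A Kh π ^ N) ≠ 0 := by
    rw [map_pow, valued_pi hπ]
    exact pow_ne_zero _ exp_ne_zero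
  obtain ⟨γ, hγ⟩ : ∃ γ, (Units.mk0 _ h0 : (ℤᵐ⁰)ˣ) = γ := ⟨_, rfl⟩
  have hopen : IsOpen {y : Kh | Valued.v ((z : Kh) - y) < Valued.v (algebraMap A Kh π ^ N)} := by
    have hb : IsOpen {y : Kh | Valued.v y < Valued.v (algebraMap A Kh π ^ N)} := by
      have e : {y : Kh | Valued.v y < Valued.v (algebraMap A Kh π ^ N)} =
          {y : Kh | (Valued.v (R := Kh)).restrict y < (Valued.v (R := Kh)).restrict (algebraMap A Kh π ^ N)} :=
        Set.ext fun y => (Valuation.restrict_lt_iff (Valued.v (R := Kh))).symm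
      rw [e]
      exact Valued.isOpen_ball Kh _
    exact hb.preimage (continuous_const.sub continuous_id)
  obtain ⟨k, hk⟩ := (HeightOneSpectrum.denseRange_algebraMap (K := FractionRing A) v).exists_mem_open hopen
    ⟨z, by simpa using zero_lt_iff.mpr h0⟩
  have hzle : Valued.v (z : Kh) ≤ 1 := z.2
  have hNle : Valued.v (algebraMap A Kh π ^ N) ≤ 1 := by
    rw [map_pow, valued_pi hπ]
    exact pow_le_one₀ zero_le (by rw [← exp_zero, exp_le_exp]; omega)
  have hkle : Valued.v (algebraMap (FractionRing A) Kh k) ≤ 1 := by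
    have h : algebraMap (FractionRing A) Kh k = (z : Kh) - ((z : Kh) - algebraMap (FractionRing A) Kh k) := by ring
    rw [h]
    exact Valuation.map_sub_le _ hzle (hk.le.trans hNle)
  obtain ⟨a, rfl⟩ : k ∈ (algebraMap A (FractionRing A)).range := by
    refine HeightOneSpectrum.mem_integers_of_valuation_le_one (FractionRing A) k fun w => ?_
    rw [show w = v from HeightOneSpectrum.ext ((IsLocalRing.eq_maximalIdeal w.isMaximal).trans
      (IsLocalRing.eq_maximalIdeal v.isMaximal).symm), ← HeightOneSpectrum.valuedAdicCompletion_eq_valuation']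
    exact hkle
  rw [← IsScalarTower.algebraMap_apply] at hk
  obtain ⟨c, hc⟩ := exists_mul_pow_of_le hπ hk.le
  refine ⟨a, c, Subtype.ext ?_⟩
  push_cast
  exact hc

include hπ in
theorem dvd_of_eq_pow_mul {a : A} {N : ℕ} {c : Ah} (h : algebraMap A Ah a = algebraMap A Ah π ^ N * c) :
    π ^ N ∣ a := by
  rcases eq_or_ne a 0 with rfl | ha
  · exact dvd_zero _
  obtain ⟨n, u, rfl⟩ := IsDiscreteValuationRing.eq_unit_mul_pow_irreducible ha hπ
  suffices N ≤ n from (pow_dvd_pow π this).mul_left _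
  have h1 := congrArg (fun t : Ah => Valued.v (t : Kh)) h
  simp only [MulMemClass.coe_mul, SubmonoidClass.coe_pow] at h1
  have hc : Valued.v (c : Kh) ≤ 1 := c.2
  have hu : Valued.v (algebraMap A Kh (u : A)) = 1 := by
    obtain ⟨w, hw⟩ := u.isUnit.exists_right_inv
    have h2 : Valued.v (algebraMap A Kh (u : A)) * Valued.v (algebraMap A Kh w) = 1 := by
      rw [← map_mul, ← map_mul, hw, map_one, map_one]
    have ha' : Valued.v (algebraMap A Kh (u : A)) ≤ 1 := (algebraMap A Ah (u : A)).2
    have hw' : Valued.v (algebraMap A Kh w) ≤ 1 := (algebraMap A Ah w).2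
    refine le_antisymm ha' ?_
    calc (1 : ℤᵐ⁰) = _ := h2.symm
      _ ≤ Valued.v (algebraMap A Kh (u : A)) * 1 := mul_le_mul' le_rfl hw'
      _ = _ := mul_one _
  rw [show ((algebraMap A Ah ((u : A) * π ^ n) : Ah) : Kh) = algebraMap A Kh ((u : A) * π ^ n) from rfl,
    show ((algebraMap A Ah π : Ah) : Kh) = algebraMap A Kh π from rfl, map_mul, map_pow, map_mul, map_mul, map_pow,
    map_pow, hu, one_mul, valued_pi hπ, ← exp_nsmul, ← exp_nsmul] at h1
  have h3 : exp (n • (-1 : ℤ)) ≤ exp (N • (-1 : ℤ)) := h1 ▸ mul_le_of_le_one_right' hc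
  rw [exp_le_exp] at h3
  simp at h3
  omega

end GrothLib.TorusPts
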