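import Groth.Agent.Lib.DiagGrp.Points
import Groth.Agent.Lib.TorusUnits.Basic
import Groth.Prelude.Def_Red
import Mathlib.CategoryTheory.Monoidal.Cartesian.Grp

/-!
# Coordinates on the points of a torus split by a ring extension
-/

universe u

open CategoryTheory CategoryTheory.Limits MonoidalCategory CartesianMonoidalCategory MonObj AlgebraicGeometry

namespace GrothLib.TorusPts

variable {A : Type u} [CommRing A] (T : Over (Spec (CommRingCat.of A))) [GrpObj T]

/-- The points with values in `C` along `i`. -/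
noncomputable abbrev Pts {C : Type u} [CommRing C] (i : A →+* C) : Type u :=
  Over.mk (Spec.map (CommRingCat.ofHom i)) ⟶ T

variable {T}

/-- Functoriality of points. -/
noncomputable def pull {C C' : Type u} [CommRing C] [CommRing C'] {i : A →+* C} {i' : A →+* C'} (h : C →+* C')
    (hh : h.comp i = i') : Pts T i →* Pts T i' where
  toFun x := (Over.homMk (Spec.map (CommRingCat.ofHom h)) (by
    show Spec.map (CommRingCat.ofHom h) ≫ Spec.map (CommRingCat.ofHom i) = _
    rw [← Spec.map_comp, ← CommRingCat.ofHom_comp, hh]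
    rfl) : Over.mk (Spec.map (CommRingCat.ofHom i')) ⟶ Over.mk (Spec.map (CommRingCat.ofHom i))) ≫ x
  map_one' := MonObj.comp_one _
  map_mul' _ _ := MonObj.comp_mul _ _ _

theorem pull_left {C C' : Type u} [CommRing C] [CommRing C'] {i : A →+* C} {i' : A →+* C'} (h : C →+* C')
    (hh : h.comp i = i') (x : Pts T i) : (pull h hh x).left = Spec.map (CommRingCat.ofHom h) ≫ x.left := rfl

theorem pull_pull {C C' C'' : Type u} [CommRing C] [CommRing C'] [CommRing C''] {i : A →+* C} {i' : A →+* C'}
    {i'' : A →+* C''} (h : C →+* C') (hh : h.comp i = i') (h' : C' →+* C'') (hh' : h'.comp i' = i'')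
    (x : Pts T i) : pull h' hh' (pull h hh x) = pull (h'.comp h) (by rw [RingHom.comp_assoc, hh, hh']) x := by
  apply Over.OverMorphism.ext
  rw [pull_left, pull_left, pull_left, CommRingCat.ofHom_comp, Spec.map_comp, Category.assoc]

theorem pull_congr {C C' : Type u} [CommRing C] [CommRing C'] {i : A →+* C} {i' : A →+* C'} {h h' : C →+* C'}
    (e : h = h') (hh : h.comp i = i') (x : Pts T i) : pull h hh x = pull h' (e ▸ hh) x := by
  subst e; rfl

section split
variable {O : Type u} [CommRing O] [Algebra A O] {M : Type} [AddCommGroup M]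
  (e : Grp.mk (Red.bc (Spec.map (CommRingCat.ofHom (algebraMap A O))) T) ≅ Grp.mk (Red.DS (Spec (CommRingCat.of O)) M))

/-- The coordinates of a point with values in an `O`-ring. -/
noncomputable def coord {C : Type u} [CommRing C] (j : O →+* C) {i : A →+* C} (hj : j.comp (algebraMap A O) = i) :
    Pts T i ≃* (Multiplicative M →* C) :=
  let a : (Over.map (Spec.map (CommRingCat.ofHom (algebraMap A O)))).obj (Over.mk (Spec.map (CommRingCat.ofHom j))) ≅
      Over.mk (Spec.map (CommRingCat.ofHom i)) :=
    Over.isoMk (Iso.refl _) (by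
      show 𝟙 _ ≫ Spec.map (CommRingCat.ofHom i) = Spec.map (CommRingCat.ofHom j) ≫ Spec.map (CommRingCat.ofHom _)
      rw [Category.id_comp, ← Spec.map_comp, ← CommRingCat.ofHom_comp, hj])
  (({ toFun := fun x => a.hom ≫ x
      invFun := fun x => a.inv ≫ x
      left_inv := fun x => by simp
      right_inv := fun x => by simp
      map_mul' := fun x y => MonObj.comp_mul _ _ _ } :
    Pts T i ≃* ((Over.map (Spec.map (CommRingCat.ofHom (algebraMap A O)))).obj
      (Over.mk (Spec.map (CommRingCat.ofHom j))) ⟶ T)).trans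
    ((DiagGrp.bcPointMulEquiv _ T (Over.mk (Spec.map (CommRingCat.ofHom j)))).trans
      ({ toFun := fun x => x ≫ e.hom.hom.hom
         invFun := fun x => x ≫ e.inv.hom.hom
         left_inv := fun x => by
           beta_reduce
           rw [Category.assoc, ← Grp.comp_hom_hom, e.hom_inv_id]
           exact Category.comp_id x
         right_inv := fun x => by
           beta_reduce
           rw [Category.assoc, ← Grp.comp_hom_hom, e.inv_hom_id]
           exact Category.comp_id x
         map_mul' := fun x y => MonObj.mul_comp x y e.hom.hom.hom } :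
        (Over.mk (Spec.map (CommRingCat.ofHom j)) ⟶ Red.bc (Spec.map (CommRingCat.ofHom (algebraMap A O))) T) ≃*
          (Over.mk (Spec.map (CommRingCat.ofHom j)) ⟶ Red.DS (Spec (CommRingCat.of O)) M)))).trans
    (DiagGrp.dsPoint M (Spec.map (CommRingCat.ofHom j))).symm

theorem coord_pull {C C' : Type u} [CommRing C] [CommRing C'] (j : O →+* C) (j' : O →+* C') {i : A →+* C}
    {i' : A →+* C'} (hj : j.comp (algebraMap A O) = i) (hj' : j'.comp (algebraMap A O) = i') (h : C →+* C')
    (hh : h.comp i = i') (hjj : h.comp j = j') (x : Pts T i) :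
    coord e j' hj' (pull h hh x) = (h : C →* C').comp (coord e j hj x) := by
  have hp : Spec.map (CommRingCat.ofHom h) ≫ Spec.map (CommRingCat.ofHom j) = Spec.map (CommRingCat.ofHom j') := by
    rw [← Spec.map_comp, ← CommRingCat.ofHom_comp, hjj]
  apply (DiagGrp.dsPoint M (Spec.map (CommRingCat.ofHom j'))).injective
  rw [← DiagGrp.dsPoint_comp (Spec.map (CommRingCat.ofHom j)) _ h _ hp]
  simp only [coord, MulEquiv.trans_apply, MulEquiv.apply_symm_apply]
  refine Eq.trans ?_ (Category.assoc _ _ _)
  refine congrArg (· ≫ e.hom.hom.hom) ?_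
  refine Eq.trans ?_ (DiagGrp.bcPoint_comp _ _ _)
  refine congrArg (DiagGrp.bcPoint _ _ _) ?_
  apply Over.OverMorphism.ext
  show 𝟙 _ ≫ (pull h hh x).left = Spec.map (CommRingCat.ofHom h) ≫ 𝟙 _ ≫ x.left
  rw [pull_left, Category.id_comp, Category.id_comp]

theorem coord_one {C : Type u} [CommRing C] (j : O →+* C) {i : A →+* C} (hj : j.comp (algebraMap A O) = i) :
    coord e j hj 1 = 1 := map_one _

end split

section twist
variable {O : Type u} [CommRing O] [IsDomain O] [Algebra A O] {r : ℕ}
  (e : Grp.mk (Red.bc (Spec.map (CommRingCat.ofHom (algebraMap A O))) T) ≅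
    Grp.mk (Red.DS (Spec (CommRingCat.of O)) (Fin r → ℤ)))

/-- Changing the coefficients by an endomorphism permutes the coordinates. -/
theorem exists_twist (σ : O →+* O) (hσ : σ.comp (algebraMap A O) = algebraMap A O) :
    ∃ f : Multiplicative (Fin r → ℤ) → Multiplicative (Fin r → ℤ), ∀ (C : Type u) [CommRing C] (j : O →+* C)
      (i : A →+* C) (hj : j.comp (algebraMap A O) = i) (x : Pts T i) (m : Multiplicative (Fin r → ℤ)),
      coord e (j.comp σ) (by rw [RingHom.comp_assoc, hσ, hj]) x m = coord e j hj x (f m) := by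
  classical
  let M := Fin r → ℤ
  let C₀ := AddMonoidAlgebra O M
  let j₀ : O →+* C₀ := algebraMap O C₀
  let x₀ : Pts T (j₀.comp (algebraMap A O)) := (coord e j₀ rfl).symm (AddMonoidAlgebra.of O M)
  let w := coord e (j₀.comp σ) (i := j₀.comp (algebraMap A O)) (by rw [RingHom.comp_assoc, hσ]) x₀
  have hw : ∀ m, ∃ n : Multiplicative M, w m = AddMonoidAlgebra.of O M n := by
    intro m
    obtain ⟨n, c, hc, hwm⟩ := TorusUnits.exists_single_of_isUnit ((Group.isUnit m).map w)
    refine ⟨Multiplicative.ofAdd n, ?_⟩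
    let ε : C₀ →ₐ[O] O := AddMonoidAlgebra.lift O O M 1
    have hε : ε.toRingHom.comp j₀ = RingHom.id O := RingHom.ext fun o => ε.commutes o
    have h1 := coord_pull e (j₀.comp σ) σ (i := j₀.comp (algebraMap A O)) (i' := algebraMap A O)
      (by rw [RingHom.comp_assoc, hσ]) hσ ε.toRingHom (by rw [← RingHom.comp_assoc, hε, RingHom.id_comp])
      (by rw [← RingHom.comp_assoc, hε, RingHom.id_comp]) x₀
    have hp : pull ε.toRingHom (by rw [← RingHom.comp_assoc, hε, RingHom.id_comp]) x₀ =
        (1 : Pts T (algebraMap A O)) := by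
      apply (coord e (RingHom.id O) (RingHom.id_comp _)).injective
      rw [map_one, coord_pull e j₀ (RingHom.id O) rfl (RingHom.id_comp _) ε.toRingHom _ hε x₀,
        MulEquiv.apply_symm_apply]
      refine MonoidHom.ext fun k => ?_
      show ε (AddMonoidAlgebra.of O M k) = 1
      exact (AddMonoidAlgebra.lift_of _ _).trans (MonoidHom.one_apply k)
    rw [hp, map_one] at h1
    have h2 : (1 : O) = ε (w m) := DFunLike.congr_fun h1 m
    rw [hwm] at h2
    rw [show ε (AddMonoidAlgebra.single n c) = c • (1 : Multiplicative M →* O) (Multiplicative.ofAdd n) from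
      AddMonoidAlgebra.lift_single _ _ _, MonoidHom.one_apply, smul_eq_mul, _root_.mul_one] at h2
    rw [hwm, ← h2]
    rfl
  choose f hf using hw
  refine ⟨f, fun C _ j i hj x m => ?_⟩
  let χ := coord e j hj x
  let φ : C₀ →+* C :=
    letI := j.toAlgebra
    (AddMonoidAlgebra.lift O C M χ).toRingHom
  have hφ : φ.comp j₀ = j := by
    letI := j.toAlgebra
    exact (AddMonoidAlgebra.lift O C M χ).comp_algebraMap
  have hφof : ∀ k, φ (AddMonoidAlgebra.of O M k) = χ k := fun k => by
    letI := j.toAlgebra
    exact AddMonoidAlgebra.lift_of χ k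
  have hpull : pull φ (by rw [← RingHom.comp_assoc, hφ, hj]) x₀ = x := by
    apply (coord e j hj).injective
    rw [coord_pull e j₀ j rfl hj φ _ hφ, MulEquiv.apply_symm_apply]
    exact MonoidHom.ext hφof
  conv_lhs => rw [← hpull]
  rw [coord_pull e (j₀.comp σ) (j.comp σ) (i := j₀.comp (algebraMap A O)) (by rw [RingHom.comp_assoc, hσ])
    _ φ _ (by rw [← RingHom.comp_assoc, hφ]) x₀]
  show φ (w m) = χ (f m)
  rw [hf, hφof]

end twist

end GrothLib.TorusPts
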