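import Mathlib.FieldTheory.IsSepClosed
import Mathlib.FieldTheory.Galois.Basic
import Mathlib.FieldTheory.Normal.Closure
import Mathlib.RingTheory.Unramified.Field
import Mathlib.RingTheory.DedekindDomain.Dvr
import Mathlib.RingTheory.DiscreteValuationRing.TFAE
import Mathlib.RingTheory.LocalRing.Module
import Mathlib.RingTheory.Etale.Basic
import Mathlib.RingTheory.Smooth.Flat
import Mathlib.RingTheory.DedekindDomain.Ideal.Lemmas
import Mathlib.RingTheory.Jacobson.Ring
import Mathlib.RingTheory.Artinian.Module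
import Mathlib.RingTheory.Ideal.GoingUp

/-!
# Unramified Galois covers of a discrete valuation ring
-/

universe u

open scoped TensorProduct

namespace GrothLib.TorusPts

/-- A domain finite and unramified over a discrete valuation ring is a semilocal Dedekind domain in
which the uniformizer is a uniformizer of every prime. -/
theorem unramified_dedekind {A O : Type u} [CommRing A] [IsDomain A] [IsDiscreteValuationRing A] [CommRing O]
    [IsDomain O] [Algebra A O] [Module.Finite A O] [Algebra.FormallyUnramified A O]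
    (hinj : Function.Injective (algebraMap A O)) (π : A) (hπ : Irreducible π) :
    IsDedekindDomain O ∧ Finite {P : Ideal O // P.IsMaximal} ∧
      ∀ P : Ideal O, P.IsMaximal → algebraMap A O π ∈ P ∧ algebraMap A O π ∉ P ^ 2 := by
  haveI : IsNoetherianRing O := IsNoetherianRing.of_finite A O
  haveI : Algebra.IsIntegral A O := Algebra.IsIntegral.of_finite A O
  haveI : FaithfulSMul A O := (faithfulSMul_iff_algebraMap_injective A O).mpr hinj
  set p : O := algebraMap A O π with hp
  have hp0 : p ≠ 0 := fun h => hπ.ne_zero (hinj (h.trans (map_zero _).symm))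
  have hmax : ∀ P : Ideal O, P.IsMaximal → p ∈ P := fun P hP => by
    haveI := hP
    haveI : (P.comap (algebraMap A O)).IsMaximal := Ideal.isMaximal_comap_of_isIntegral_of_isMaximal P
    show π ∈ P.comap (algebraMap A O)
    rw [IsLocalRing.eq_maximalIdeal (I := P.comap (algebraMap A O)) inferInstance, hπ.maximalIdeal_eq]
    exact Ideal.mem_span_singleton_self π
  let m := IsLocalRing.maximalIdeal A
  have hm : m.map (algebraMap A O) = Ideal.span {p} := by
    show (IsLocalRing.maximalIdeal A).map _ = _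
    rw [hπ.maximalIdeal_eq, Ideal.map_span, Set.image_singleton]
  let B := O ⧸ m.map (algebraMap A O)
  haveI : Algebra.FormallyUnramified A B :=
    Algebra.FormallyUnramified.of_surjective (Ideal.Quotient.mkₐ A _) Ideal.Quotient.mk_surjective
  haveI : IsScalarTower A (A ⧸ m) B := IsScalarTower.of_algebraMap_eq fun a => rfl
  haveI : Algebra.FormallyUnramified (A ⧸ m) B := Algebra.FormallyUnramified.of_restrictScalars A (A ⧸ m) B
  letI : Field (A ⧸ m) := Ideal.Quotient.field m
  haveI : Module.Finite (A ⧸ m) B := Module.Finite.of_restrictScalars_finite A (A ⧸ m) B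
  haveI : Algebra.EssFiniteType (A ⧸ m) B := inferInstance
  haveI hred : IsReduced B := Algebra.FormallyUnramified.isReduced_of_field (A ⧸ m) B
  haveI : IsArtinianRing B := isArtinian_of_tower (A ⧸ m) inferInstance
  have hfin : Finite {P : Ideal O // P.IsMaximal} := by
    let Ψ : {P : Ideal O // P.IsMaximal} → MaximalSpectrum B := fun P =>
      ⟨P.1.map (Ideal.Quotient.mk (m.map (algebraMap A O))), by
        haveI := P.2
        refine (Ideal.map_eq_top_or_isMaximal_of_surjective _ Ideal.Quotient.mk_surjective P.2).resolve_left ?_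
        intro h
        have h1 := congrArg (Ideal.comap (Ideal.Quotient.mk (m.map (algebraMap A O)))) h
        rw [Ideal.comap_map_of_surjective _ Ideal.Quotient.mk_surjective, ← RingHom.ker_eq_comap_bot,
          Ideal.mk_ker, Ideal.comap_top, sup_eq_left.mpr (by
            rw [hm, Ideal.span_singleton_le_iff_mem]; exact hmax _ P.2)] at h1
        exact P.2.ne_top h1⟩
    refine Finite.of_injective Ψ fun P Q h => Subtype.ext ?_
    have h1 := congrArg (fun R => Ideal.comap (Ideal.Quotient.mk (m.map (algebraMap A O))) R.1) h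
    simp only [Ψ, Ideal.comap_map_of_surjective _ Ideal.Quotient.mk_surjective, ← RingHom.ker_eq_comap_bot,
      Ideal.mk_ker] at h1
    rwa [sup_eq_left.mpr (by rw [hm, Ideal.span_singleton_le_iff_mem]; exact hmax _ P.2),
      sup_eq_left.mpr (by rw [hm, Ideal.span_singleton_le_iff_mem]; exact hmax _ Q.2)] at h1
  haveI := Fintype.ofFinite {P : Ideal O // P.IsMaximal}
  have key : ∀ P : Ideal O, P.IsMaximal → ∀ t ∈ P, ∃ s ∉ P, s * t ∈ Ideal.span {p} := by
    classical
    intro P hP t ht
    let others := Finset.univ.filter fun Q : {P : Ideal O // P.IsMaximal} => Q.1 ≠ P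
    have hex : ∀ Q ∈ others, ∃ s, s ∈ Q.1 ∧ s ∉ P := fun Q hQ => by
      by_contra h
      push Not at h
      exact (Finset.mem_filter.mp hQ).2 (Q.2.eq_of_le hP.ne_top h)
    choose s hsQ hsP using hex
    refine ⟨∏ Q ∈ others.attach, s Q.1 Q.2, fun h => ?_, ?_⟩
    · obtain ⟨Q, -, hQ⟩ := (Ideal.IsPrime.prod_mem_iff (hp := hP.isPrime)).mp h
      exact hsP _ _ hQ
    · set x := (∏ Q ∈ others.attach, s Q.1 Q.2) * t with hx
      rw [← hm, ← Ideal.Quotient.eq_zero_iff_mem]
      refine IsReduced.eq_zero _ ?_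
      rw [← mem_nilradical, nilradical_eq_sInf, Submodule.mem_sInf]
      intro q hq
      haveI : Ideal.IsPrime q := hq
      haveI : Ideal.IsMaximal q := IsArtinianRing.isMaximal_of_isPrime q
      haveI := Ideal.comap_isMaximal_of_surjective (Ideal.Quotient.mk (m.map (algebraMap A O)))
        Ideal.Quotient.mk_surjective (K := q)
      show x ∈ Ideal.comap (Ideal.Quotient.mk (m.map (algebraMap A O))) q
      by_cases hQP : Ideal.comap (Ideal.Quotient.mk _) q = P
      · rw [hQP]
        exact P.mul_mem_left _ ht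
      · refine Ideal.mul_mem_right _ _ ?_
        have hmem : (⟨Ideal.comap (Ideal.Quotient.mk (m.map (algebraMap A O))) q, inferInstance⟩ : {P : Ideal O // P.IsMaximal}) ∈ others :=
          Finset.mem_filter.mpr ⟨Finset.mem_univ _, hQP⟩
        exact Ideal.prod_mem _ (Finset.mem_attach _ ⟨_, hmem⟩) (hsQ _ hmem)
  haveI hdvr : IsDedekindDomainDvr O := by
    refine { is_dvr_at_nonzero_prime := fun P hP0 hPp => ?_ }
    haveI := hPp
    haveI : (P.comap (algebraMap A O)).IsMaximal :=
      Ideal.IsPrime.isMaximal inferInstance (Ideal.comap_ne_bot_of_integral_mem (Submodule.exists_mem_ne_zero_of_ne_bot hP0).choose_spec.2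
        (Submodule.exists_mem_ne_zero_of_ne_bot hP0).choose_spec.1 (Algebra.IsIntegral.isIntegral _))
    have hPm : P.IsMaximal := by
      exact Ideal.isMaximal_of_isIntegral_of_isMaximal_comap (R := A) P inferInstance
    let R := Localization.AtPrime P
    have hnf : ¬ IsField R := IsLocalization.AtPrime.not_isField O hP0 R
    have h04 : IsDiscreteValuationRing R ↔ (IsLocalRing.maximalIdeal R).IsPrincipal :=
      (IsDiscreteValuationRing.TFAE R hnf).out 0 4
    refine h04.mpr ⟨⟨algebraMap O R p, le_antisymm ?_ ?_⟩⟩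
    · rw [← Localization.AtPrime.map_eq_maximalIdeal]
      refine Ideal.map_le_of_le_comap fun t ht => ?_
      obtain ⟨s, hs, hst⟩ := key P hPm t ht
      obtain ⟨a, ha⟩ := Ideal.mem_span_singleton'.mp hst
      show algebraMap O R t ∈ Ideal.span {algebraMap O R p}
      obtain ⟨u, hu⟩ := IsLocalization.map_units R (⟨s, hs⟩ : P.primeCompl)
      rw [show algebraMap O R t = (↑u⁻¹ * algebraMap O R a) * algebraMap O R p by
        rw [mul_assoc, ← map_mul, ha, map_mul, ← hu, Units.inv_mul_cancel_left]]
      exact Ideal.mul_mem_left _ _ (Ideal.mem_span_singleton_self _)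
    · refine (Ideal.span_singleton_le_iff_mem _).mpr ?_
      rw [← Localization.AtPrime.map_eq_maximalIdeal]
      exact Ideal.mem_map_of_mem _ (hmax P hPm)
  haveI : IsDedekindDomain O := IsDedekindDomainDvr.isDedekindDomain O
  refine ⟨inferInstance, hfin, fun P hP => ⟨hmax P hP, fun h2 => ?_⟩⟩
  have hP0 : P ≠ ⊥ := fun h => hp0 (by simpa [h] using hmax P hP)
  obtain ⟨t, ht, ht2⟩ := SetLike.exists_of_lt (Ideal.pow_lt_self P hP0 hP.ne_top 2 le_rfl)
  obtain ⟨s, hs, hst⟩ := key P hP t ht
  have hst2 : s * t ∈ P ^ 2 := (Ideal.span_singleton_le_iff_mem _).mpr h2 hst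
  obtain ⟨a, b, hb, hab⟩ := hP.exists_inv hs
  refine ht2 ?_
  rw [show t = a * (s * t) + b * t by linear_combination (-t) * hab]
  exact (P ^ 2).add_mem ((P ^ 2).mul_mem_left _ hst2) (by rw [pow_two]; exact Ideal.mul_mem_mul hb ht)

/-- A finite étale algebra over a domain maps to an unramified finite subring of a finite Galois extension of
the fraction field, stable under the Galois group. -/
theorem exists_galois_subring (A : Type u) [CommRing A] [IsDomain A] [IsLocalRing A] [IsNoetherianRing A]
    (A₁ : Type u) [CommRing A₁] [Algebra A A₁] [Nontrivial A₁] [Algebra.Etale A A₁] [Module.Finite A A₁] :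
    ∃ (L : Type u) (_ : Field L) (_ : Algebra (FractionRing A) L) (_ : Algebra A L)
      (_ : IsScalarTower A (FractionRing A) L) (O : Subalgebra A L),
      FiniteDimensional (FractionRing A) L ∧ IsGalois (FractionRing A) L ∧ Module.Finite A O ∧
      Algebra.FormallyUnramified A O ∧ (∀ σ : L ≃ₐ[FractionRing A] L, ∀ o ∈ O, σ o ∈ O) ∧
      (∀ z : L, ∃ (a : A) (o : O), a ≠ 0 ∧ a • z = o) ∧ Nonempty (A₁ →ₐ[A] O) := by
  classical
  let K := FractionRing A
  let Ω := SeparableClosure K
  haveI : Module.Free A A₁ := Module.free_of_flat_of_isLocalRing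
  haveI : Nontrivial (K ⊗[A] A₁) := by
    obtain ⟨i⟩ := (Module.Free.chooseBasis A A₁).index_nonempty
    exact ⟨⟨((Module.Free.chooseBasis A A₁).baseChange K) i, 0, ((Module.Free.chooseBasis A A₁).baseChange K).ne_zero i⟩⟩
  obtain ⟨q, hq⟩ := Ideal.exists_maximal (K ⊗[A] A₁)
  letI : Field ((K ⊗[A] A₁) ⧸ q) := Ideal.Quotient.field q
  haveI : Algebra.FormallyUnramified K ((K ⊗[A] A₁) ⧸ q) :=
    Algebra.FormallyUnramified.of_surjective (Ideal.Quotient.mkₐ K q) Ideal.Quotient.mk_surjective
  haveI : Algebra.IsSeparable K ((K ⊗[A] A₁) ⧸ q) := Algebra.FormallyUnramified.isSeparable K _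
  let h₀ : A₁ →ₐ[A] Ω := (((IsSepClosed.lift : ((K ⊗[A] A₁) ⧸ q) →ₐ[K] Ω).comp
    (Ideal.Quotient.mkₐ K q)).restrictScalars A).comp Algebra.TensorProduct.includeRight
  -- finitely many morphisms
  haveI : Finite (A₁ →ₐ[A] Ω) := by
    obtain ⟨s, hs⟩ := (Module.Finite.fg_top : (⊤ : Submodule A A₁).FG)
    have hint : ∀ a : s, ∃ f : Polynomial A, f.Monic ∧ Polynomial.aeval (a : A₁) f = 0 := fun a =>
      (Algebra.IsIntegral.isIntegral (R := A) (a : A₁))
    choose f hf hfa using hint
    let R : s → Set Ω := fun a => {x | x ∈ ((f a).map (algebraMap A Ω)).roots}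
    haveI : ∀ a, Finite (R a) := fun a => (Set.Finite.subset ((f a).map (algebraMap A Ω)).roots.toFinset.finite_toSet
      fun x hx => Multiset.mem_toFinset.mpr hx).to_subtype
    refine Finite.of_injective (fun (h : A₁ →ₐ[A] Ω) (a : s) => (⟨h a, by
      show h a ∈ ((f a).map (algebraMap A Ω)).roots
      rw [Polynomial.mem_roots ((hf a).map _).ne_zero, Polynomial.IsRoot.def, Polynomial.eval_map,
        ← Polynomial.aeval_def, Polynomial.aeval_algHom_apply, hfa, map_zero]⟩ : R a)) fun h g hhg => ?_
    refine AlgHom.toLinearMap_injective (LinearMap.ext_on hs fun a ha => ?_)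
    exact congrArg Subtype.val (congrFun hhg ⟨a, ha⟩)
  haveI := Fintype.ofFinite (A₁ →ₐ[A] Ω)
  let O₀ : Subalgebra A Ω := Finset.univ.sup fun h : A₁ →ₐ[A] Ω => h.range
  have hO₀ : Module.Finite A O₀ ∧ Algebra.FormallyUnramified A O₀ := by
    show Module.Finite A ↥(Finset.univ.sup fun h : A₁ →ₐ[A] Ω => h.range) ∧
      Algebra.FormallyUnramified A ↥(Finset.univ.sup fun h : A₁ →ₐ[A] Ω => h.range)
    induction (Finset.univ : Finset (A₁ →ₐ[A] Ω)) using Finset.induction with
    | empty =>
      rw [Finset.sup_empty]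
      exact ⟨Module.Finite.of_surjective (Algebra.linearMap A (⊥ : Subalgebra A Ω)) fun ⟨x, hx⟩ => by
          obtain ⟨a, rfl⟩ := Algebra.mem_bot.mp hx
          exact ⟨a, rfl⟩,
        Algebra.FormallyUnramified.of_surjective (Algebra.ofId A (⊥ : Subalgebra A Ω)) fun ⟨x, hx⟩ => by
          obtain ⟨a, rfl⟩ := Algebra.mem_bot.mp hx
          exact ⟨a, rfl⟩⟩
    | insert h t ht ih =>
      rw [Finset.sup_insert]
      obtain ⟨ih1, ih2⟩ := ih
      let T := Finset.sup t fun h : A₁ →ₐ[A] Ω => h.range
      haveI : Algebra.FormallyUnramified A T := ih2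
      haveI : Module.Finite A T := ih1
      let Φ := Algebra.TensorProduct.productMap h T.val
      have hΦ : Φ.range = h.range ⊔ T := by rw [Algebra.TensorProduct.productMap_range, Subalgebra.range_val]
      haveI : Algebra.FormallyUnramified A (A₁ ⊗[A] T) := Algebra.FormallyUnramified.comp A A₁ _
      show Module.Finite A ↥(h.range ⊔ T) ∧ Algebra.FormallyUnramified A ↥(h.range ⊔ T)
      rw [← hΦ]
      exact ⟨Module.Finite.of_surjective Φ.rangeRestrict.toLinearMap Φ.rangeRestrict_surjective,
        Algebra.FormallyUnramified.of_surjective Φ.rangeRestrict Φ.rangeRestrict_surjective⟩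
  obtain ⟨hfinO, hurO⟩ := hO₀
  obtain ⟨sgen, hsgen⟩ := (Module.Finite.fg_top : (⊤ : Submodule A O₀).FG)
  let L : IntermediateField K Ω := IntermediateField.adjoin K (O₀ : Set Ω)
  haveI : Algebra.IsIntegral A O₀ := Algebra.IsIntegral.of_finite A O₀
  have hint : ∀ x ∈ (O₀ : Set Ω), IsIntegral K x := fun x hx =>
    IsIntegral.tower_top ((Algebra.IsIntegral.isIntegral (R := A) (⟨x, hx⟩ : O₀)).map O₀.val)
  haveI : FiniteDimensional K L := by
    have hL : L = IntermediateField.adjoin K (O₀.val '' (sgen : Set O₀)) := by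
      refine le_antisymm (IntermediateField.adjoin_le_iff.mpr ?_) (IntermediateField.adjoin.mono K _ _ ?_)
      · intro x hx
        have h : (⟨x, hx⟩ : O₀) ∈ Submodule.span A (sgen : Set O₀) := by rw [hsgen]; trivial
        show O₀.val ⟨x, hx⟩ ∈ IntermediateField.adjoin K (O₀.val '' (sgen : Set O₀))
        generalize (⟨x, hx⟩ : O₀) = y at h ⊢
        induction h using Submodule.span_induction with
        | mem z hz => exact IntermediateField.subset_adjoin K _ ⟨z, hz, rfl⟩
        | zero => rw [map_zero]; exact zero_mem _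
        | add y z _ _ hy hz => rw [map_add]; exact add_mem hy hz
        | smul a y _ hy =>
          rw [map_smul, Algebra.smul_def, IsScalarTower.algebraMap_apply A K Ω]
          exact mul_mem (IntermediateField.algebraMap_mem _ _) hy
      · rintro _ ⟨z, -, rfl⟩; exact z.2
    rw [hL]
    haveI : Finite (O₀.val '' (sgen : Set O₀)) := (sgen.finite_toSet.image _).to_subtype
    exact IntermediateField.finiteDimensional_adjoin fun x hx => by
      obtain ⟨z, -, rfl⟩ := hx
      exact hint _ z.2
  have hstab : ∀ (σ : Ω →ₐ[K] Ω) (x : Ω), x ∈ O₀ → σ x ∈ O₀ := by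
    intro σ x hx
    have : O₀.map (σ.restrictScalars A) ≤ O₀ := by
      show (Finset.univ.sup fun h : A₁ →ₐ[A] Ω => h.range).map _ ≤ _
      rw [Subalgebra.map_le]
      refine Finset.sup_le fun h _ => ?_
      rw [← Subalgebra.map_le, ← AlgHom.range_comp]
      exact Finset.le_sup (f := fun h : A₁ →ₐ[A] Ω => h.range) (Finset.mem_univ _)
    exact this ⟨x, hx, rfl⟩
  haveI : Normal K L := by
    refine IntermediateField.normal_iff_forall_map_le.mpr fun σ => ?_
    rw [IntermediateField.adjoin_map]
    refine IntermediateField.adjoin.mono K _ _ ?_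
    rintro _ ⟨x, hx, rfl⟩
    exact hstab σ x hx
  haveI : IsGalois K L := ⟨⟩
  let O : Subalgebra A L := O₀.comap (L.val.restrictScalars A)
  have hsub : ∀ x ∈ O₀, x ∈ L := fun x hx => IntermediateField.subset_adjoin K _ hx
  let e : O₀ →ₐ[A] O :=
    { toFun := fun x => ⟨⟨x, hsub _ x.2⟩, x.2⟩
      map_one' := rfl
      map_mul' := fun _ _ => rfl
      map_zero' := rfl
      map_add' := fun _ _ => rfl
      commutes' := fun _ => rfl }
  have hesurj : Function.Surjective e := fun y => ⟨⟨y.1.1, y.2⟩, rfl⟩
  refine ⟨L, inferInstance, inferInstance, inferInstance, inferInstance, O, inferInstance, inferInstance,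
    Module.Finite.of_surjective e.toLinearMap hesurj, Algebra.FormallyUnramified.of_surjective e hesurj,
    fun σ o ho => ?_, fun z => ?_, ⟨e.comp ((h₀.codRestrict O₀) fun a => ?_)⟩⟩
  · show L.val (σ o) ∈ O₀
    have := hstab (σ.toAlgHom.liftNormal Ω) (L.val o) ho
    rwa [show L.val o = algebraMap L Ω o from rfl, AlgHom.liftNormal_commutes] at this
  · -- clear denominators
    haveI : IsDomain O₀ := inferInstance
    have hz : (z : Ω) ∈ Algebra.adjoin K (O₀ : Set Ω) := by
      rw [← IntermediateField.adjoin_toSubalgebra_of_isAlgebraic fun x hx => (hint x hx).isAlgebraic]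
      exact z.2
    have : ∃ (a : A), a ≠ 0 ∧ a • (z : Ω) ∈ O₀ := by
      generalize (z : Ω) = w at hz
      induction hz using Algebra.adjoin_induction with
      | mem x hx => exact ⟨1, one_ne_zero, by rwa [one_smul]⟩
      | algebraMap k =>
        obtain ⟨a, b, hb, rfl⟩ := IsFractionRing.div_surjective (A := A) k
        refine ⟨b, nonZeroDivisors.ne_zero hb, ?_⟩
        rw [Algebra.smul_def, IsScalarTower.algebraMap_apply A K Ω, ← map_mul,
          mul_div_cancel₀ _ (IsFractionRing.to_map_ne_zero_of_mem_nonZeroDivisors hb),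
          ← IsScalarTower.algebraMap_apply A K Ω]
        exact O₀.algebraMap_mem a
      | add x y _ _ hx hy =>
        obtain ⟨a, ha, hax⟩ := hx
        obtain ⟨b, hb, hby⟩ := hy
        refine ⟨a * b, mul_ne_zero ha hb, ?_⟩
        rw [smul_add]
        refine O₀.add_mem ?_ ?_
        · rw [mul_comm a b, mul_smul]; exact O₀.smul_mem hax b
        · rw [mul_smul]; exact O₀.smul_mem hby a
      | mul x y _ _ hx hy =>
        obtain ⟨a, ha, hax⟩ := hx
        obtain ⟨b, hb, hby⟩ := hy
        refine ⟨a * b, mul_ne_zero ha hb, ?_⟩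
        rw [← smul_mul_smul_comm]
        exact O₀.mul_mem hax hby
    obtain ⟨a, ha, hmem⟩ := this
    exact ⟨a, ⟨a • z, hmem⟩, ha, rfl⟩
  · exact (Finset.le_sup (f := fun h : A₁ →ₐ[A] Ω => h.range) (Finset.mem_univ h₀)) ⟨a, rfl⟩

end GrothLib.TorusPts
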