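import Groth.Agent.Lib.TorusPts.Uniformizers
import Groth.Agent.Lib.TorusPts.Cover
import Groth.Agent.Lib.TorusPts.Completion
import Mathlib.RingTheory.TensorProduct.Maps
import Mathlib.RingTheory.Jacobson.Ideal
import Mathlib.LinearAlgebra.Dimension.Localization

/-!
# Units of `L ⊗ K̂` modulo the units of `O ⊗ Â`
-/

universe u

open scoped TensorProduct
open IsDedekindDomain

namespace GrothLib.TorusPts

variable {A : Type u} [CommRing A] [IsDomain A] [IsDiscreteValuationRing A] (v : HeightOneSpectrum A)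
  {L : Type u} [Field L] [Algebra (FractionRing A) L] [Algebra A L] [IsScalarTower A (FractionRing A) L]
  (O : Subalgebra A L)

local notation "K" => FractionRing A
local notation "Kh" => v.adicCompletion (FractionRing A)
local notation "Ah" => v.adicCompletionIntegers (FractionRing A)

/-- The map `O ⊗ Â ⟶ L ⊗ K̂`. -/
noncomputable def kappa : O ⊗[A] Ah →ₐ[A] L ⊗[FractionRing A] Kh :=
  Algebra.TensorProduct.productMap
    ((Algebra.TensorProduct.includeLeft : L →ₐ[A] L ⊗[FractionRing A] Kh).comp O.val)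
    (((Algebra.TensorProduct.includeRight : Kh →ₐ[FractionRing A] L ⊗[FractionRing A] Kh).restrictScalars A).comp
      (IsScalarTower.toAlgHom A Ah Kh))

theorem kappa_tmul (o : O) (c : Ah) : kappa v O (o ⊗ₜ c) = (o : L) ⊗ₜ[FractionRing A] (c : Kh) := by
  show ((o : L) ⊗ₜ[FractionRing A] (1 : Kh)) * ((1 : L) ⊗ₜ[FractionRing A] (c : Kh)) = _
  rw [Algebra.TensorProduct.tmul_mul_tmul, mul_one, one_mul]

variable {v O}

theorem includeRight_injective : Function.Injective
    (Algebra.TensorProduct.includeRight : Kh →ₐ[FractionRing A] L ⊗[FractionRing A] Kh) :=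
  Algebra.TensorProduct.includeRight_injective (algebraMap (FractionRing A) L).injective

theorem algebraMap_tensor (a : A) : algebraMap A (L ⊗[FractionRing A] Kh) a =
    (Algebra.TensorProduct.includeRight : Kh →ₐ[FractionRing A] L ⊗[FractionRing A] Kh) (algebraMap A Kh a) := by
  rw [IsScalarTower.algebraMap_apply A K (L ⊗[FractionRing A] Kh), IsScalarTower.algebraMap_apply A K Kh,
    AlgHom.commutes]

variable {π : A} (hπ : Irreducible π)

include hπ in
theorem exists_unit_kappa [Module.Finite A O] (x : O ⊗[A] Ah) :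
    IsUnit (1 - algebraMap A (O ⊗[A] Ah) π * x) := by
  by_contra h
  obtain ⟨Q, hQ, hle⟩ := Ideal.exists_le_maximal _ (fun e => h (Ideal.span_singleton_eq_top.mp e))
  letI : Algebra Ah (O ⊗[A] Ah) := Algebra.TensorProduct.rightAlgebra
  haveI : Module.Finite Ah (Ah ⊗[A] O) := Module.Finite.base_change A Ah O
  let ec : (Ah ⊗[A] O) ≃ₐ[Ah] (O ⊗[A] Ah) :=
    AlgEquiv.ofRingEquiv (f := (Algebra.TensorProduct.comm A Ah O).toRingEquiv) fun c => by
      show Algebra.TensorProduct.comm A Ah O (c ⊗ₜ 1) = (1 : O) ⊗ₜ c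
      rfl
  haveI : Module.Finite Ah (O ⊗[A] Ah) := Module.Finite.equiv ec.toLinearEquiv
  haveI : Algebra.IsIntegral Ah (O ⊗[A] Ah) := Algebra.IsIntegral.of_finite _ _
  haveI := hQ
  haveI : (Q.comap (algebraMap Ah (O ⊗[A] Ah))).IsMaximal := Ideal.isMaximal_comap_of_isIntegral_of_isMaximal Q
  have hnu : ¬ IsUnit (algebraMap A Ah π) := by
    intro hu
    obtain ⟨c, hc⟩ := hu.exists_right_inv
    have h1 : algebraMap A Ah 1 = algebraMap A Ah π ^ 1 * c := by rw [pow_one, hc, map_one]
    have := dvd_of_eq_pow_mul hπ h1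
    rw [pow_one] at this
    exact hπ.not_isUnit (isUnit_of_dvd_one this)
  have hπQ : algebraMap A Ah π ∈ Q.comap (algebraMap Ah (O ⊗[A] Ah)) := by
    rw [IsLocalRing.eq_maximalIdeal (I := Q.comap (algebraMap Ah (O ⊗[A] Ah))) inferInstance]
    exact hnu
  have hπQ' : algebraMap A (O ⊗[A] Ah) π ∈ Q := by
    rw [show algebraMap A (O ⊗[A] Ah) π = algebraMap Ah (O ⊗[A] Ah) (algebraMap A Ah π) from
      ((Algebra.TensorProduct.includeRight : Ah →ₐ[A] O ⊗[A] Ah).commutes π).symm]
    exact hπQ
  refine hQ.ne_top (Q.eq_top_iff_one.mpr ?_)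
  have h2 := Q.add_mem (hle (Ideal.mem_span_singleton_self _)) (Q.mul_mem_right x hπQ')
  rwa [sub_add_cancel] at h2

include hπ in
theorem exists_pow_mul_kappa (hfrac : ∀ z : L, ∃ (a : A) (o : O), a ≠ 0 ∧ a • z = o)
    (z : L ⊗[FractionRing A] Kh) :
    ∃ (N : ℕ) (w : O ⊗[A] Ah), algebraMap A _ π ^ N * z = kappa v O w := by
  induction z using TensorProduct.induction_on with
  | zero => exact ⟨0, 0, by rw [mul_zero, map_zero]⟩
  | tmul l k =>
    obtain ⟨a, o, ha, hao⟩ := hfrac l
    obtain ⟨n, u, hu⟩ := IsDiscreteValuationRing.eq_unit_mul_pow_irreducible ha hπ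
    obtain ⟨N, c, hc⟩ := exists_pow_mul_mem hπ k
    refine ⟨n + N, ((↑u⁻¹ : A) • o) ⊗ₜ c, ?_⟩
    rw [kappa_tmul, pow_add, mul_assoc]
    have h1 : algebraMap A (L ⊗[FractionRing A] Kh) π ^ N * (l ⊗ₜ k) = l ⊗ₜ[FractionRing A] (c : Kh) := by
      rw [← map_pow, algebraMap_tensor, Algebra.TensorProduct.includeRight_apply, Algebra.TensorProduct.tmul_mul_tmul,
        one_mul, map_pow, hc]
    rw [h1, ← map_pow, Algebra.TensorProduct.algebraMap_apply, Algebra.TensorProduct.tmul_mul_tmul, one_mul]
    congr 1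
    show algebraMap A L (π ^ n) * l = (↑u⁻¹ : A) • (o : L)
    rw [← Algebra.smul_def, ← hao, smul_smul, hu, ← mul_assoc, Units.inv_mul, one_mul]
  | add x y hx hy =>
    obtain ⟨M, wx, hwx⟩ := hx
    obtain ⟨N, wy, hwy⟩ := hy
    refine ⟨M + N, algebraMap A _ π ^ N * wx + algebraMap A _ π ^ M * wy, ?_⟩
    rw [map_add, map_mul, map_mul, map_pow, map_pow, AlgHom.commutes, ← hwx, ← hwy]
    ring

include hπ in
theorem exists_sub_eq (w : O ⊗[A] Ah) (N : ℕ) :
    ∃ (o : O) (c : O ⊗[A] Ah), w = o ⊗ₜ 1 + algebraMap A _ π ^ N * c := by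
  induction w using TensorProduct.induction_on with
  | zero => exact ⟨0, 0, by rw [TensorProduct.zero_tmul, mul_zero, add_zero]⟩
  | tmul o z =>
    obtain ⟨a, c, hc⟩ := exists_sub_mem hπ z N
    refine ⟨a • o, o ⊗ₜ c, ?_⟩
    have h1 : algebraMap A (O ⊗[A] Ah) π ^ N * (o ⊗ₜ c) = o ⊗ₜ (algebraMap A Ah π ^ N * c) := by
      rw [← map_pow, ← (Algebra.TensorProduct.includeRight : Ah →ₐ[A] O ⊗[A] Ah).commutes,
        Algebra.TensorProduct.includeRight_apply, Algebra.TensorProduct.tmul_mul_tmul, one_mul, map_pow]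
    rw [h1, ← hc, TensorProduct.tmul_sub, TensorProduct.smul_tmul, Algebra.algebraMap_eq_smul_one]
    abel
  | add x y hx hy =>
    obtain ⟨o, c, h⟩ := hx
    obtain ⟨o', c', h'⟩ := hy
    exact ⟨o + o', c + c', by rw [h, h', TensorProduct.add_tmul, mul_add]; abel⟩

include hπ in
/-- Every unit of `L ⊗ K̂` is a unit of `L` times a unit of `O ⊗ Â`. -/
theorem exists_decomp [Module.Finite A O] (hfrac : ∀ z : L, ∃ (a : A) (o : O), a ≠ 0 ∧ a • z = o)
    (z : (L ⊗[FractionRing A] Kh)ˣ) :
    ∃ (l : Lˣ) (w : (O ⊗[A] Ah)ˣ), z =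
      Units.map (Algebra.TensorProduct.includeLeftRingHom : L →+* L ⊗[FractionRing A] Kh).toMonoidHom l *
        Units.map (kappa v O).toMonoidHom w := by
  obtain ⟨N, w, hw⟩ := exists_pow_mul_kappa hπ hfrac (z : L ⊗[FractionRing A] Kh)
  obtain ⟨N', w', hw'⟩ := exists_pow_mul_kappa hπ hfrac ((z⁻¹ : (L ⊗[FractionRing A] Kh)ˣ) : L ⊗[FractionRing A] Kh)
  obtain ⟨o, c, hoc⟩ := exists_sub_eq hπ w (N + N' + 1)
  obtain ⟨e, he⟩ := exists_unit_kappa hπ (c * w')
  set p := algebraMap A (L ⊗[FractionRing A] Kh) π with hp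
  set zi : L →+* L ⊗[FractionRing A] Kh := Algebra.TensorProduct.includeLeftRingHom
  have hko : kappa v O (o ⊗ₜ 1) = zi o := kappa_tmul v O o 1
  have hpu : IsUnit p := by
    have h0 : algebraMap A L π ≠ 0 := fun h => hπ.ne_zero (IsFractionRing.injective A K
      ((algebraMap K L).injective (by rw [← IsScalarTower.algebraMap_apply, h, map_zero, map_zero])))
    exact (IsUnit.mk0 _ h0).map zi
  have h1 : zi o = p ^ N * z * kappa v O (e : O ⊗[A] Ah) := by
    have h3 : kappa v O w = zi o + p ^ (N + N' + 1) * kappa v O c := by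
      rw [hoc, map_add, map_mul, map_pow, AlgHom.commutes, hko]
    have h4 : (z : L ⊗[FractionRing A] Kh) * ((z⁻¹ : (L ⊗[FractionRing A] Kh)ˣ) : L ⊗[FractionRing A] Kh) = 1 :=
      z.mul_inv
    have h5 : kappa v O (e : O ⊗[A] Ah) = 1 - p * (kappa v O c * kappa v O w') := by
      rw [he, map_sub, map_one, map_mul, map_mul, AlgHom.commutes]
    rw [h5]
    linear_combination -h3 - hw + (-(p ^ N * z * p * kappa v O c)) * hw'
      + (p ^ (N + N' + 1) * kappa v O c) * h4
  have ho : (o : L) ≠ 0 := fun h => by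
    rw [h, map_zero] at h1
    haveI : Nontrivial (L ⊗[FractionRing A] Kh) := includeRight_injective.nontrivial
    exact (((hpu.pow N).mul z.isUnit).mul (e.isUnit.map (kappa v O))).ne_zero h1.symm
  have hπL : algebraMap A L π ^ N ≠ 0 := pow_ne_zero _ fun h => hπ.ne_zero (IsFractionRing.injective A K
    ((algebraMap K L).injective (by rw [← IsScalarTower.algebraMap_apply, h, map_zero, map_zero])))
  refine ⟨Units.mk0 _ ho / Units.mk0 _ hπL, e⁻¹, ?_⟩
  rw [map_inv, eq_mul_inv_iff_mul_eq, map_div, eq_div_iff_mul_eq']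
  refine Units.ext ?_
  show (z : L ⊗[FractionRing A] Kh) * kappa v O (e : O ⊗[A] Ah) * zi (algebraMap A L π ^ N) = zi o
  rw [h1, map_pow, show zi (algebraMap A L π) = p from rfl]
  ring

include hπ in
/-- An element of `L` integral at the completion is integral. -/
theorem mem_of_includeLeft_mem [Module.Finite A O]
    (hfrac : ∀ z : L, ∃ (a : A) (o : O), a ≠ 0 ∧ a • z = o) (l : L) (w : O ⊗[A] Ah)
    (h : (Algebra.TensorProduct.includeLeftRingHom : L →+* L ⊗[FractionRing A] Kh) l = kappa v O w) : l ∈ O := by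
  classical
  haveI : Module.IsTorsionFree A O := by
    refine .of_smul_eq_zero fun a x hax => ?_
    by_cases ha : a = 0
    · exact Or.inl ha
    · refine Or.inr (Subtype.ext ?_)
      have h1 : algebraMap A L a * (x : L) = 0 := by rw [← Algebra.smul_def]; exact congrArg Subtype.val hax
      refine (mul_eq_zero.mp h1).resolve_left fun h0 => ha (IsFractionRing.injective A K
        ((algebraMap K L).injective (by rw [← IsScalarTower.algebraMap_apply, h0, map_zero, map_zero])))
  haveI : Module.Free A O := Module.free_of_finite_type_torsion_free'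
  let b := Module.Free.chooseBasis A O
  let g : Module.Free.ChooseBasisIndex A O → L := fun i => (b i : L)
  have hli : LinearIndependent (FractionRing A) g :=
    (LinearIndependent.iff_fractionRing A (FractionRing A)).mp (b.linearIndependent.map' O.val.toLinearMap
      (LinearMap.ker_eq_bot.mpr Subtype.val_injective))
  have hspan : ⊤ ≤ Submodule.span (FractionRing A) (Set.range g) := by
    intro z _
    obtain ⟨a, o, ha, hao⟩ := hfrac z
    have ho : (o : L) ∈ Submodule.span (FractionRing A) (Set.range g) := by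
      refine Submodule.span_le_restrictScalars A (FractionRing A) _ ?_
      rw [← b.sum_repr o]
      push_cast
      exact Submodule.sum_mem _ fun i _ => Submodule.smul_mem _ _ (Submodule.subset_span ⟨i, rfl⟩)
    have hz : z = (algebraMap A (FractionRing A) a)⁻¹ • (o : L) := by
      rw [← hao, ← IsScalarTower.algebraMap_smul (FractionRing A) a z, smul_smul,
        inv_mul_cancel₀ (fun e => ha (IsFractionRing.injective A K (e.trans (map_zero _).symm))), one_smul]
    rw [hz]
    exact Submodule.smul_mem _ _ ho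
  let bK := Module.Basis.mk hli hspan
  have hrepr : ∀ (o : O) i, bK.repr (o : L) i = algebraMap A (FractionRing A) (b.repr o i) := by
    intro o i
    conv_lhs => rw [← b.sum_repr o]
    push_cast
    simp only [map_sum, Finsupp.coe_finset_sum, Finset.sum_apply]
    rw [Finset.sum_eq_single i (fun j _ hji => ?_) (fun hi => absurd (Finset.mem_univ i) hi)]
    · rw [← IsScalarTower.algebraMap_smul (FractionRing A), map_smul,
        show (b i : L) = bK i from (Module.Basis.mk_apply hli hspan i).symm, bK.repr_self, Finsupp.smul_apply,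
        Finsupp.single_eq_same, smul_eq_mul, mul_one]
    · rw [← IsScalarTower.algebraMap_smul (FractionRing A), map_smul,
        show (b j : L) = bK j from (Module.Basis.mk_apply hli hspan j).symm, bK.repr_self, Finsupp.smul_apply,
        Finsupp.single_eq_of_ne hji.symm, smul_zero]
  let Φ : Module.Free.ChooseBasisIndex A O → L ⊗[FractionRing A] Kh →ₗ[FractionRing A] Kh := fun i =>
    (TensorProduct.lid (FractionRing A) Kh).toLinearMap ∘ₗ TensorProduct.map (bK.coord i) LinearMap.id
  have hΦ : ∀ i (x : L) (k : Kh), Φ i (x ⊗ₜ k) = bK.repr x i • k := fun i x k => rfl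
  have hκ : ∀ i, Φ i (kappa v O w) ∈ Ah := by
    intro i
    clear h
    induction w using TensorProduct.induction_on with
    | zero => rw [map_zero, map_zero]; exact zero_mem _
    | tmul o c =>
      rw [kappa_tmul, hΦ, hrepr, IsScalarTower.algebraMap_smul, Algebra.smul_def]
      exact mul_mem (algebraMap A Ah (b.repr o i)).2 c.2
    | add x y hx hy => rw [map_add, map_add]; exact add_mem hx hy
  obtain ⟨a, o, ha, hao⟩ := hfrac l
  obtain ⟨n, u, hu⟩ := IsDiscreteValuationRing.eq_unit_mul_pow_irreducible ha hπ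
  have hdvd : ∀ i, π ^ n ∣ b.repr o i := fun i => by
    refine (Units.dvd_mul_left).mp ((?_ : π ^ n ∣ (↑u⁻¹ : A) * b.repr o i))
    refine dvd_of_eq_pow_mul hπ (c := ⟨Φ i (kappa v O w), hκ i⟩) (Subtype.ext ?_)
    show algebraMap A Kh ((↑u⁻¹ : A) * b.repr o i) = algebraMap A Kh π ^ n * Φ i (kappa v O w)
    rw [← h, Algebra.TensorProduct.includeLeftRingHom_apply, hΦ, ← map_pow, ← Algebra.smul_def,
      IsScalarTower.algebraMap_apply A (FractionRing A) Kh, map_mul, ← hrepr, ← Algebra.algebraMap_eq_smul_one,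
      ← IsScalarTower.algebraMap_smul (FractionRing A) (π ^ n), Algebra.smul_def _ (algebraMap K Kh _), ← map_mul]
    congr 1
    rw [← hao, ← IsScalarTower.algebraMap_smul (FractionRing A) a l, map_smul, Finsupp.smul_apply, smul_eq_mul,
      ← mul_assoc, ← map_mul, hu, ← mul_assoc, Units.inv_mul, one_mul]
  choose d hd using hdvd
  have ho : o = (π ^ n) • (∑ i, d i • b i) := by
    conv_lhs => rw [← b.sum_repr o]
    rw [Finset.smul_sum]
    exact Finset.sum_congr rfl fun i _ => by rw [hd i, smul_smul]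
  have hl : l = ((↑u⁻¹ : A) • ∑ i, d i • b i : O) := by
    refine mul_left_cancel₀ (a := algebraMap A L a) (fun h0 => ha (IsFractionRing.injective A K
      ((algebraMap K L).injective (by rw [← IsScalarTower.algebraMap_apply, h0, map_zero, map_zero])))) ?_
    rw [← Algebra.smul_def, ← Algebra.smul_def]
    show a • l = a • (((↑u⁻¹ : A) • ∑ i, d i • b i : O) : L)
    rw [hao, ← Subalgebra.coe_smul, ho, smul_smul, hu,
      show (u : A) * π ^ n * (↑u⁻¹ : A) = π ^ n by rw [mul_comm (u : A), mul_assoc, Units.mul_inv, mul_one]]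
  rw [hl]
  exact SetLike.coe_mem _

end GrothLib.TorusPts
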