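import Groth.Agent.Lib.TorusPts.Model
import Mathlib.RingTheory.Localization.Away.Basic
import Mathlib.FieldTheory.Finite.Extension
import Mathlib.Combinatorics.Nullstellensatz
import Mathlib.RingTheory.Flat.Basic
import Mathlib.RingTheory.Trace.Basic
import Mathlib.RingTheory.Ideal.GoingUp
import Mathlib.Algebra.MvPolynomial.Funext

/-!
# Points of a retract rational torus over a local ring

A point of the residue field is a quotient of two points in the domain of the retraction, which lift; over a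
finite field this holds after extensions of two coprime degrees, and one takes norms.
-/

universe u

open CategoryTheory CategoryTheory.Limits MonoidalCategory CartesianMonoidalCategory MonObj AlgebraicGeometry
open scoped TensorProduct

namespace GrothLib.TorusPts

section geometry

variable {k : Type u} [Field k] {T : Scheme.{u}} [IsAffine T] (t : T ⟶ Spec (CommRingCat.of k))

/-- A retraction onto a nonempty open is given by ring maps on basic opens. -/
theorem exists_ringRetraction [Algebra k Γ(T, ⊤)] [IsDomain Γ(T, ⊤)]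
    (ht : T.isoSpec.inv ≫ t = Spec.map (CommRingCat.ofHom (algebraMap k Γ(T, ⊤))))
    {n : ℕ} (U : T.Opens) (Y : (Spec (CommRingCat.of (MvPolynomial (Fin n) k))).Opens)
    (a : (U : Scheme.{u}) ⟶ (Y : Scheme.{u})) (b : (Y : Scheme.{u}) ⟶ (U : Scheme.{u}))
    (hU : (U : Set T).Nonempty) (hab : a ≫ b = 𝟙 (U : Scheme.{u}))
    (ha : a ≫ Y.ι ≫ Spec.map (CommRingCat.ofHom (algebraMap k (MvPolynomial (Fin n) k))) = U.ι ≫ t)
    (hb : b ≫ U.ι ≫ t = Y.ι ≫ Spec.map (CommRingCat.ofHom (algebraMap k (MvPolynomial (Fin n) k)))) :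
    ∃ (c : Γ(T, ⊤)) (p : MvPolynomial (Fin n) k) (gm : Γ(T, ⊤) →ₐ[k] Localization.Away p)
      (ψ : Localization.Away p →ₐ[k] Localization.Away c),
      c ≠ 0 ∧ ψ.comp gm = IsScalarTower.toAlgHom k Γ(T, ⊤) (Localization.Away c) := by
  classical
  let B := Γ(T, ⊤)
  let P := MvPolynomial (Fin n) k
  obtain ⟨x₀, hx₀⟩ := hU
  let y₀ := (a ≫ Y.ι) ⟨x₀, hx₀⟩
  obtain ⟨_, ⟨p, rfl⟩, hy₀, hpY⟩ := PrimeSpectrum.isTopologicalBasis_basic_opens.exists_subset_of_mem_open
    (show y₀ ∈ (Y : Set (Spec (CommRingCat.of P))) from (a ⟨x₀, hx₀⟩).2) Y.2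
  let fp : Spec (CommRingCat.of (Localization.Away p)) ⟶ Spec (CommRingCat.of P) :=
    Spec.map (CommRingCat.ofHom (algebraMap P (Localization.Away p)))
  haveI : IsOpenImmersion fp := IsOpenImmersion.of_isLocalization p
  have hfp : ∀ q : PrimeSpectrum P, q ∈ Set.range fp ↔ q ∈ PrimeSpectrum.basicOpen p :=
    Set.ext_iff.mp (PrimeSpectrum.localization_away_comap_range (Localization.Away p) p)
  let k₀ := IsOpenImmersion.lift Y.ι fp (fun q hq => ⟨⟨q, hpY ((hfp q).mp hq)⟩, rfl⟩)
  have hk₀ : k₀ ≫ Y.ι = fp := IsOpenImmersion.lift_fac _ _ _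
  -- the basic open of `T`
  let W : Set (Spec (CommRingCat.of B)) := T.isoSpec.inv ⁻¹' (U.ι '' ((a ≫ Y.ι) ⁻¹' Set.range fp))
  have hW : IsOpen W := (U.ι.isOpenEmbedding.isOpenMap _
    ((IsOpenImmersion.isOpen_range fp).preimage (a ≫ Y.ι).continuous)).preimage T.isoSpec.inv.continuous
  have hWne : T.isoSpec.hom (U.ι ⟨x₀, hx₀⟩) ∈ W :=
    ⟨⟨x₀, hx₀⟩, (hfp _).mpr hy₀, (Scheme.hom_inv_apply T.isoSpec _).symm⟩
  obtain ⟨_, ⟨c, rfl⟩, hc₀, hcW⟩ :=
    PrimeSpectrum.isTopologicalBasis_basic_opens.exists_subset_of_mem_open hWne hW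
  have hc : c ≠ 0 := by
    rintro rfl
    exact hc₀ (Ideal.zero_mem _)
  let fc : Spec (CommRingCat.of (Localization.Away c)) ⟶ Spec (CommRingCat.of B) :=
    Spec.map (CommRingCat.ofHom (algebraMap B (Localization.Away c)))
  haveI : IsOpenImmersion fc := IsOpenImmersion.of_isLocalization c
  have hfc : ∀ q : PrimeSpectrum B, q ∈ Set.range fc ↔ q ∈ PrimeSpectrum.basicOpen c :=
    Set.ext_iff.mp (PrimeSpectrum.localization_away_comap_range (Localization.Away c) c)
  have hrange : ∀ q, fc q ∈ W := fun q => hcW ((hfc _).mp ⟨q, rfl⟩)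
  let j := IsOpenImmersion.lift U.ι (fc ≫ T.isoSpec.inv) (by
    rintro _ ⟨q, rfl⟩
    obtain ⟨z, -, hz⟩ := hrange q
    exact ⟨z, hz⟩)
  have hj : j ≫ U.ι = fc ≫ T.isoSpec.inv := IsOpenImmersion.lift_fac _ _ _
  let l := IsOpenImmersion.lift fp (j ≫ a ≫ Y.ι) (by
    rintro _ ⟨q, rfl⟩
    obtain ⟨z, hz, hz'⟩ := hrange q
    have h1 : j q = z := U.ι.isOpenEmbedding.injective
      ((congrArg (fun f : Spec (CommRingCat.of (Localization.Away c)) ⟶ T => f q) hj).trans hz'.symm)
    show (a ≫ Y.ι) (j q) ∈ _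
    rw [h1]
    exact hz)
  have hl : l ≫ fp = j ≫ a ≫ Y.ι := IsOpenImmersion.lift_fac _ _ _
  have hlk : l ≫ k₀ = j ≫ a := by
    rw [← cancel_mono Y.ι, Category.assoc, hk₀, hl, Category.assoc]
  let g := Spec.preimage (k₀ ≫ b ≫ U.ι ≫ T.isoSpec.hom)
  let φ := Spec.preimage l
  have hgk : g.hom.comp (algebraMap k B) = algebraMap k (Localization.Away p) := by
    have h1 : CommRingCat.ofHom (algebraMap k B) ≫ g = CommRingCat.ofHom (algebraMap k (Localization.Away p)) := by
      apply Spec.map_injective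
      rw [Spec.map_comp, Spec.map_preimage, ← ht]
      simp only [Category.assoc, Iso.hom_inv_id_assoc]
      rw [hb, ← Category.assoc, hk₀, ← Spec.map_comp, ← CommRingCat.ofHom_comp, ← IsScalarTower.algebraMap_eq]
    exact congrArg CommRingCat.Hom.hom h1
  have hφk : φ.hom.comp (algebraMap k (Localization.Away p)) = algebraMap k (Localization.Away c) := by
    have h1 : CommRingCat.ofHom (algebraMap k (Localization.Away p)) ≫ φ =
        CommRingCat.ofHom (algebraMap k (Localization.Away c)) := by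
      apply Spec.map_injective
      have hP : Spec.map (CommRingCat.ofHom (algebraMap k (Localization.Away p))) =
          fp ≫ Spec.map (CommRingCat.ofHom (algebraMap k P)) := by
        rw [← Spec.map_comp]
        exact congrArg (fun f => Spec.map (CommRingCat.ofHom f)) (IsScalarTower.algebraMap_eq k P _)
      have hB : Spec.map (CommRingCat.ofHom (algebraMap k (Localization.Away c))) = (fc ≫ T.isoSpec.inv) ≫ t := by
        rw [Category.assoc, ht, ← Spec.map_comp]
        exact congrArg (fun f => Spec.map (CommRingCat.ofHom f)) (IsScalarTower.algebraMap_eq k B _)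
      rw [Spec.map_comp, Spec.map_preimage, hP, hB, ← Category.assoc, hl, ← hj, Category.assoc, Category.assoc, ha,
        Category.assoc]
    exact congrArg CommRingCat.Hom.hom h1
  have hgφ : g ≫ φ = CommRingCat.ofHom (algebraMap B (Localization.Away c)) := by
    apply Spec.map_injective
    rw [Spec.map_comp, Spec.map_preimage, Spec.map_preimage, ← Category.assoc, hlk, Category.assoc,
      reassoc_of% hab, ← Category.assoc, hj, Category.assoc, Iso.inv_hom_id, Category.comp_id]
  exact ⟨c, p, { g.hom with commutes' := RingHom.congr_fun hgk }, { φ.hom with commutes' := RingHom.congr_fun hφk },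
    hc, AlgHom.ext fun x => congrArg (fun f : CommRingCat.of B ⟶ _ => f x) hgφ⟩

end geometry

variable {k : Type u} [Field k] {T : Over (Spec (CommRingCat.of k))} [GrpObj T] [IsAffine T.left]

theorem pull_injective {C C' : Type u} [CommRing C] [CommRing C'] {i : k →+* C} {i' : k →+* C'} (h : C →+* C')
    (hh : h.comp i = i') (hinj : Function.Injective h) : Function.Injective (pull (T := T) h hh) := by
  intro x y e
  refine ev_injective _ _ (CommRingCat.hom_ext (RingHom.ext fun b => hinj ?_))
  have h1 := congrArg (fun z : Pts T i' => ev z b) e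
  simpa [ev_pull] using h1

omit [IsAffine T.left] in
theorem pull_id {C : Type u} [CommRing C] {i : k →+* C} (hh : (RingHom.id C).comp i = i) (x : Pts T i) :
    pull (RingHom.id C) hh x = x := by
  apply Over.OverMorphism.ext
  rw [pull_left]
  exact (congrArg (· ≫ x.left) (Spec.map_id _)).trans (Category.id_comp _)

/-- The points of a torus commute. -/
theorem pts_mul_comm {r : ℕ} (hT : TwC.Locally (Spec (CommRingCat.of k)) .finiteEtale
      (fun S' g => Red.IsSplitTorusWith (Fin r → ℤ) (Red.bc g T)))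
    {C : Type u} [CommRing C] {i : k →+* C} (x y : Pts T i) : x * y = y * x := by
  haveI : Nonempty (Spec (CommRingCat.of k)) := ⟨IsLocalRing.closedPoint k⟩
  obtain ⟨A₁, _, _, hnt, -, -, hsplit⟩ := exists_splitting hT
  haveI := hnt
  obtain ⟨e⟩ := hsplit A₁ ⟨AlgHom.id k A₁⟩
  letI := i.toAlgebra
  let h : C →+* A₁ ⊗[k] C := (Algebra.TensorProduct.includeRight : C →ₐ[k] A₁ ⊗[k] C).toRingHom
  have hh : h.comp i = algebraMap k (A₁ ⊗[k] C) :=
    (Algebra.TensorProduct.includeRight : C →ₐ[k] A₁ ⊗[k] C).comp_algebraMap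
  apply pull_injective h hh (Algebra.TensorProduct.includeRight_injective (algebraMap k A₁).injective)
  apply (coord e (algebraMap A₁ (A₁ ⊗[k] C)) (IsScalarTower.algebraMap_eq k A₁ _).symm).injective
  rw [map_mul, map_mul, map_mul, map_mul, _root_.mul_comm]

/-- Functoriality of points along an algebra map. -/
noncomputable def pullA {C C' : Type u} [CommRing C] [Algebra k C] [CommRing C'] [Algebra k C'] (h : C →ₐ[k] C') :
    Pts T (algebraMap k C) →* Pts T (algebraMap k C') :=
  pull h.toRingHom (RingHom.ext h.commutes)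

omit [IsAffine T.left] in
theorem pullA_pullA {C C' C'' : Type u} [CommRing C] [Algebra k C] [CommRing C'] [Algebra k C'] [CommRing C'']
    [Algebra k C''] (h : C →ₐ[k] C') (h' : C' →ₐ[k] C'') (x : Pts T (algebraMap k C)) :
    pullA h' (pullA h x) = pullA (h'.comp h) x :=
  pull_pull _ _ _ _ x

theorem ev_pullA {C C' : Type u} [CommRing C] [Algebra k C] [CommRing C'] [Algebra k C'] (h : C →ₐ[k] C')
    (x : Pts T (algebraMap k C)) (b : Γ(T.left, ⊤)) : ev (pullA h x) b = h (ev x b) := by
  rw [pullA, ev_pull]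
  rfl

variable [Algebra k Γ(T.left, ⊤)]

/-- The point of an algebra map on the coordinate ring. -/
noncomputable def algPt (halg : algebraMap k Γ(T.left, ⊤) = strMap T) {C : Type u} [CommRing C] [Algebra k C]
    (φ : Γ(T.left, ⊤) →ₐ[k] C) : Pts T (algebraMap k C) :=
  mkPt T φ.toRingHom (by rw [← halg]; exact φ.comp_algebraMap)

theorem ev_algPt (halg : algebraMap k Γ(T.left, ⊤) = strMap T) {C : Type u} [CommRing C] [Algebra k C]
    (φ : Γ(T.left, ⊤) →ₐ[k] C) (b : Γ(T.left, ⊤)) : ev (algPt halg φ) b = φ b :=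
  RingHom.congr_fun (ev_mkPt T φ.toRingHom _) b

/-- The algebra map of a point. -/
noncomputable def evAlg (halg : algebraMap k Γ(T.left, ⊤) = strMap T) {C : Type u} [CommRing C] [Algebra k C]
    (x : Pts T (algebraMap k C)) : Γ(T.left, ⊤) →ₐ[k] C :=
  { (ev x).hom with
    commutes' := fun a => (congrArg (ev x).hom (RingHom.congr_fun halg a)).trans
      (RingHom.congr_fun (ev_comp_strMap x) a) }

theorem pull_algPt (halg : algebraMap k Γ(T.left, ⊤) = strMap T) {C C' : Type u} [CommRing C] [Algebra k C]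
    [CommRing C'] [Algebra k C'] (h : C →ₐ[k] C') (φ : Γ(T.left, ⊤) →ₐ[k] C) :
    pullA h (algPt halg φ) = algPt halg (h.comp φ) := by
  refine ev_injective _ _ (CommRingCat.hom_ext (RingHom.ext fun b => ?_))
  show ev (pullA _ _) b = ev _ b
  rw [ev_pullA, ev_algPt, ev_algPt]
  rfl

variable [IsDomain Γ(T.left, ⊤)] {n : ℕ} {c : Γ(T.left, ⊤)} {p : MvPolynomial (Fin n) k}
  (gm : Γ(T.left, ⊤) →ₐ[k] Localization.Away p) (ψ : Localization.Away p →ₐ[k] Localization.Away c)

omit [IsDomain Γ(T.left, ⊤)] in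
/-- A point avoiding `c` lifts to every local ring. -/
theorem exists_lift (halg : algebraMap k Γ(T.left, ⊤) = strMap T)
    (hψgm : ψ.comp gm = IsScalarTower.toAlgHom k Γ(T.left, ⊤) (Localization.Away c))
    {A κ : Type u} [CommRing A] [IsLocalRing A] [Algebra k A] [Field κ] [Algebra k κ] (π : A →ₐ[k] κ)
    (hπ : Function.Surjective π) (z : Pts T (algebraMap k κ)) (hz : ev z c ≠ 0) :
    ∃ s : Pts T (algebraMap k A), pullA π s = z := by
  let P := MvPolynomial (Fin n) k
  let φc : Localization.Away c →+* κ := IsLocalization.Away.lift c (g := (evAlg halg z).toRingHom) (Ne.isUnit hz)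
  have hφc : ∀ b, φc (algebraMap Γ(T.left, ⊤) _ b) = evAlg halg z b := fun b => IsLocalization.Away.lift_eq c _ b
  let φ : Localization.Away p →ₐ[k] κ :=
    { φc.comp ψ.toRingHom with
      commutes' := fun a => by
        show φc (ψ (algebraMap k _ a)) = _
        rw [ψ.commutes, IsScalarTower.algebraMap_apply k Γ(T.left, ⊤) (Localization.Away c), hφc, AlgHom.commutes] }
  choose v hv using fun i => hπ (φ (algebraMap P _ (MvPolynomial.X i)))
  let l : P →ₐ[k] A := MvPolynomial.aeval v
  have hl : π.comp l = φ.comp (IsScalarTower.toAlgHom k P (Localization.Away p)) :=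
    MvPolynomial.algHom_ext fun i => by simp [l, hv, P]
  have hp : IsUnit (l p) := by
    by_contra h
    have h1 : π (l p) ≠ 0 := by
      rw [show π (l p) = φ (algebraMap P _ p) from AlgHom.congr_fun hl p]
      exact ((IsLocalization.Away.algebraMap_isUnit p).map φ).ne_zero
    have hker : RingHom.ker π.toRingHom = IsLocalRing.maximalIdeal A :=
      IsLocalRing.eq_maximalIdeal (RingHom.ker_isMaximal_of_surjective π.toRingHom hπ)
    exact h1 (RingHom.mem_ker.mp (hker.symm ▸ (IsLocalRing.mem_maximalIdeal _).mpr h : l p ∈ RingHom.ker π.toRingHom))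
  let l' : Localization.Away p →ₐ[k] A :=
    IsLocalization.liftAlgHom (M := Submonoid.powers p) (f := l) fun y => by
      obtain ⟨m, hm⟩ := y.2
      rw [← hm, map_pow]
      exact hp.pow m
  have hl' : π.comp l' = φ := IsLocalization.algHom_ext (Submonoid.powers p) (AlgHom.ext fun x => by
    show π (l' (algebraMap P _ x)) = φ (algebraMap P _ x)
    rw [show l' (algebraMap P _ x) = l x from IsLocalization.lift_eq (g := l.toRingHom) _ x]
    exact AlgHom.congr_fun hl x)
  refine ⟨algPt halg (l'.comp gm), ?_⟩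
  rw [pull_algPt, ← AlgHom.comp_assoc, hl']
  refine ev_injective _ _ (CommRingCat.hom_ext (RingHom.ext fun b => ?_))
  show ev _ b = ev z b
  rw [ev_algPt]
  show φc (ψ (gm b)) = _
  rw [show ψ (gm b) = algebraMap _ (Localization.Away c) b from AlgHom.congr_fun hψgm b, hφc]
  rfl

/-- Every point is, generically, a quotient of two points avoiding `c`. -/
theorem exists_good_polynomial (halg : algebraMap k Γ(T.left, ⊤) = strMap T) (hc : c ≠ 0)
    (hψgm : ψ.comp gm = IsScalarTower.toAlgHom k Γ(T.left, ⊤) (Localization.Away c))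
    {κ : Type u} [Field κ] [Algebra k κ] (u : Pts T (algebraMap k κ)) :
    ∃ F : MvPolynomial (Fin n) κ, F ≠ 0 ∧ ∀ (κ' : Type u) [Field κ'] [Algebra k κ'] (h : κ →ₐ[k] κ')
      (y : Fin n → κ'), MvPolynomial.eval₂ h.toRingHom y F ≠ 0 →
      ∃ z : Pts T (algebraMap k κ'), ev z c ≠ 0 ∧ ev (pullA h u * z) c ≠ 0 := by
  let B := Γ(T.left, ⊤)
  let P := MvPolynomial (Fin n) k
  let Q := MvPolynomial (Fin n) κ
  let mp : P →ₐ[k] Q := MvPolynomial.mapAlgHom (IsScalarTower.toAlgHom k k κ)
  let q : Q := mp p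
  let R := Localization.Away q
  let r : Localization.Away p →ₐ[k] R :=
    IsLocalization.liftAlgHom (M := Submonoid.powers p) (f := (IsScalarTower.toAlgHom k Q R).comp mp) fun y => by
      obtain ⟨m, hm⟩ := y.2
      rw [← hm, map_pow]
      exact (IsLocalization.Away.algebraMap_isUnit q).pow m
  have hr : ∀ x, r (algebraMap P _ x) = algebraMap Q R (mp x) :=
    fun x => IsLocalization.lift_eq (g := ((IsScalarTower.toAlgHom k Q R).comp mp).toRingHom) _ x
  let κR : κ →ₐ[k] R := IsScalarTower.toAlgHom k κ R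
  let g₀ : Pts T (algebraMap k R) := algPt halg (r.comp gm)
  let e' : R := ev g₀ c
  let e : R := ev (pullA κR u * g₀) c
  -- the generic point
  let S := κ ⊗[k] B
  let inl : κ →ₐ[k] S := Algebra.TensorProduct.includeLeft
  let inr : B →ₐ[k] S := Algebra.TensorProduct.includeRight
  let w := algPt halg inr
  let c₁ : S := inr c
  let Sc := Localization.Away c₁
  let inS : S →ₐ[k] Sc := IsScalarTower.toAlgHom k S Sc
  have hnzd : c₁ ∈ nonZeroDivisors S := by
    have hinj : Function.Injective (LinearMap.lTensor κ (LinearMap.mulLeft k c)) :=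
      Module.Flat.lTensor_preserves_injective_linearMap _ fun a b e => mul_left_cancel₀ hc e
    have hmul : LinearMap.lTensor κ (LinearMap.mulLeft k c) = LinearMap.mulLeft k c₁ :=
      TensorProduct.ext' fun a b => by
        show a ⊗ₜ[k] (c * b) = ((1 : κ) ⊗ₜ[k] c) * (a ⊗ₜ[k] b)
        rw [Algebra.TensorProduct.tmul_mul_tmul, _root_.one_mul]
    rw [hmul] at hinj
    exact mem_nonZeroDivisors_iff.mpr ⟨fun x hx => hinj (by simpa using hx),
      fun x hx => hinj (by simpa [_root_.mul_comm c₁ x] using hx)⟩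
  have hinS : Function.Injective inS :=
    IsLocalization.injective Sc (M := Submonoid.powers c₁) (Submonoid.powers_le.mpr hnzd)
  have hc₁ : c₁ ≠ 0 := fun e => hc
    (Algebra.TensorProduct.includeRight_injective (algebraMap k κ).injective (e.trans (map_zero inr).symm))
  -- compare
  let ψS : Localization.Away c →ₐ[k] Sc :=
    IsLocalization.liftAlgHom (M := Submonoid.powers c) (f := inS.comp inr) fun y => by
      obtain ⟨m, hm⟩ := y.2
      rw [← hm, map_pow]
      exact (IsLocalization.Away.algebraMap_isUnit c₁).pow m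
  have hψS : ∀ b, ψS (algebraMap B _ b) = inS (inr b) :=
    fun b => IsLocalization.lift_eq (g := (inS.comp inr).toRingHom) _ b
  let Φ₀ : Q →+* Sc := MvPolynomial.eval₂Hom (inS.comp inl).toRingHom
    fun i => ψS (ψ (algebraMap P _ (MvPolynomial.X i)))
  have hΦ₀ : ∀ x, Φ₀ (mp x) = ψS (ψ (algebraMap P _ x)) := by
    suffices Φ₀.comp mp.toRingHom = (ψS.comp ψ).toRingHom.comp (algebraMap P _) from RingHom.congr_fun this
    refine MvPolynomial.ringHom_ext (fun a => ?_) (fun i => ?_)
    · show Φ₀ (mp (MvPolynomial.C a)) = (ψS.comp ψ) (algebraMap P _ (algebraMap k P a))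
      rw [← IsScalarTower.algebraMap_apply k P (Localization.Away p), AlgHom.commutes]
      show Φ₀ (mp (algebraMap k P a)) = _
      rw [mp.commutes, IsScalarTower.algebraMap_apply k κ Q, MvPolynomial.algebraMap_eq, MvPolynomial.eval₂Hom_C]
      exact (inS.comp inl).commutes a
    · show Φ₀ (mp (MvPolynomial.X i)) = _
      simp [mp, Φ₀, P, Q]
  have hΦu : IsUnit (Φ₀ q) := by
    rw [hΦ₀]
    exact ((IsLocalization.Away.algebraMap_isUnit p).map ψ).map ψS
  let Φ : R →+* Sc := IsLocalization.Away.lift q hΦu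
  have hΦ : ∀ x, Φ (algebraMap Q R x) = Φ₀ x := fun x => IsLocalization.Away.lift_eq q hΦu x
  have hΦr : ∀ x, Φ (r x) = ψS (ψ x) := by
    suffices Φ.comp r.toRingHom = (ψS.comp ψ).toRingHom from RingHom.congr_fun this
    refine IsLocalization.ringHom_ext (Submonoid.powers p) (RingHom.ext fun x => ?_)
    show Φ (r (algebraMap P _ x)) = _
    rw [hr, hΦ, hΦ₀]
    rfl
  have hΦκ : ∀ a, Φ (κR a) = inS (inl a) := fun a => by
    show Φ (algebraMap κ R a) = _
    rw [IsScalarTower.algebraMap_apply κ Q R a, hΦ,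
      MvPolynomial.algebraMap_eq, MvPolynomial.eval₂Hom_C]
    rfl
  have hΦk : Φ.comp (algebraMap k R) = algebraMap k Sc := RingHom.ext fun a => by
    show Φ (algebraMap k R a) = _
    rw [← κR.commutes a, hΦκ]
    exact (inS.comp inl).commutes a
  have hg₀ : pull Φ hΦk g₀ = pullA inS w := by
    refine ev_injective _ _ (CommRingCat.hom_ext (RingHom.ext fun b => ?_))
    show ev (pull _ _ _) b = ev (pullA _ _) b
    rw [ev_pull, ev_pullA]
    show Φ (ev g₀ b) = inS (ev w b)
    rw [ev_algPt, ev_algPt]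
    show Φ (r (gm b)) = _
    rw [hΦr, show ψ (gm b) = algebraMap _ (Localization.Away c) b from AlgHom.congr_fun hψgm b, hψS]
  have hu : pull Φ hΦk (pullA κR u) =
      pullA inS (pullA inl u) := by
    rw [pullA, pullA, pullA, pull_pull, pull_pull]
    exact pull_congr (RingHom.ext hΦκ) _ _
  let uS : Pts T (algebraMap k S) := pullA inl u
  let e₀ : S := ev (uS * w) c
  have he : Φ e = inS e₀ := by
    have h1 := congrArg₂ (fun x y => ev (x * y) c) hu hg₀
    simp only [← map_mul, ev_pull] at h1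
    exact h1.trans (ev_pullA inS _ c)
  have he' : Φ e' = inS c₁ := by
    have h1 := congrArg (fun y => ev y c) hg₀
    simp only [ev_pull, ev_pullA] at h1
    exact h1.trans ((ev_pullA inS w c).trans (congrArg inS (ev_algPt halg inr c)))
  have he₀ : e₀ ≠ 0 := by
    let τ : S →ₐ[k] S :=
      Algebra.TensorProduct.lift inl (evAlg halg (uS⁻¹ * w)) fun _ _ => Commute.all _ _
    have hτl : τ.comp inl = inl := AlgHom.ext fun a => by
      show τ (a ⊗ₜ[k] (1 : B)) = a ⊗ₜ[k] (1 : B)
      rw [Algebra.TensorProduct.lift_tmul, map_one, _root_.mul_one]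
      rfl
    have hτw : pullA τ w = uS⁻¹ * w := by
      refine ev_injective _ _ (CommRingCat.hom_ext (RingHom.ext fun b => ?_))
      show ev (pullA _ _) b = ev (uS⁻¹ * w) b
      rw [ev_pullA]
      show τ (ev w b) = _
      rw [ev_algPt]
      show τ ((1 : κ) ⊗ₜ[k] b) = _
      rw [Algebra.TensorProduct.lift_tmul, map_one, _root_.one_mul]
      rfl
    have hτu : pullA τ uS = uS := by
      rw [pullA_pullA, hτl]
    intro h0
    refine hc₁ ?_
    have h1 : ev (pullA τ (uS * w)) c = ev w c := by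
      rw [map_mul, hτu, hτw, mul_inv_cancel_left]
    rw [ev_algPt, ev_pullA] at h1
    show inr c = 0
    rw [← h1]
    show τ e₀ = 0
    rw [h0, map_zero]
  have hq : q ≠ 0 := fun h0 => by
    have h01 : IsUnit (0 : Sc) := (map_zero Φ₀) ▸ (h0 ▸ hΦu)
    haveI : Nontrivial S := ⟨⟨c₁, 0, hc₁⟩⟩
    haveI : Nontrivial Sc := hinS.nontrivial
    exact not_isUnit_zero h01
  haveI : IsDomain R := IsLocalization.isDomain_localization (powers_le_nonZeroDivisors_of_noZeroDivisors hq)
  have hee : e * e' ≠ 0 := mul_ne_zero (fun h0 => he₀ (hinS (by rw [← he, h0, map_zero, map_zero])))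
    (fun h0 => hc₁ (hinS (by rw [← he', h0, map_zero, map_zero])))
  obtain ⟨m, F₀, hF₀⟩ := IsLocalization.Away.surj q (e * e')
  have hF₀' : F₀ ≠ 0 := fun h0 => by
    rw [h0, map_zero] at hF₀
    exact hee ((((IsLocalization.Away.algebraMap_isUnit (S := R) q).pow m).mul_left_eq_zero).mp hF₀)
  refine ⟨F₀ * q, mul_ne_zero hF₀' hq, @fun κ' _ _ h y hy => ?_⟩
  let evl₀ : Q →+* κ' := MvPolynomial.eval₂Hom h.toRingHom y
  have hy' : evl₀ F₀ * evl₀ q ≠ 0 := by rw [← map_mul]; exact hy
  let evl : R →+* κ' := IsLocalization.Away.lift q (g := evl₀) (right_ne_zero_of_mul hy').isUnit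
  have hevl : ∀ x, evl (algebraMap Q R x) = evl₀ x := fun x => IsLocalization.Away.lift_eq q _ x
  have hevlκ : ∀ a, evl (κR a) = h a := fun a => by
    show evl (algebraMap κ R a) = _
    rw [IsScalarTower.algebraMap_apply κ Q R a, hevl, MvPolynomial.algebraMap_eq, MvPolynomial.eval₂Hom_C]
    rfl
  have hevlk : evl.comp (algebraMap k R) = algebraMap k κ' := RingHom.ext fun a => by
    show evl (algebraMap k R a) = _
    rw [← κR.commutes a, hevlκ, h.commutes]
  have h0 : evl e * evl e' ≠ 0 := by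
    intro h0
    refine left_ne_zero_of_mul hy' ?_
    rw [← hevl, ← hF₀, map_mul, map_mul evl e e', h0, zero_mul]
  refine ⟨pull evl hevlk g₀, by rw [ev_pull]; exact right_ne_zero_of_mul h0, ?_⟩
  have hu' : pullA h u = pull evl hevlk (pullA κR u) := by
    rw [pullA, pullA, pull_pull]
    exact pull_congr (RingHom.ext fun a => (hevlκ a).symm) _ _
  rw [hu', ← map_mul, ev_pull]
  exact left_ne_zero_of_mul h0

end GrothLib.TorusPts
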