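import Groth.Agent.Lib.TorusPts.Lift
import Mathlib.RingTheory.TensorProduct.Finite
import Mathlib.RingTheory.LocalRing.Quotient
import Mathlib.LinearAlgebra.TensorProduct.RightExactness
import Mathlib.RingTheory.IntegralClosure.Algebra.Basic
import Mathlib.LinearAlgebra.Dimension.Constructions

/-!
# Lifting points of a retract rational torus to local rings
-/

universe u

open CategoryTheory CategoryTheory.Limits MonoidalCategory CartesianMonoidalCategory MonObj AlgebraicGeometry
open scoped TensorProduct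

namespace GrothLib.TorusPts

section algebra

variable {k : Type u} [Field k] {A κ : Type u} [CommRing A] [Algebra k A] [Field κ] [Algebra k κ]
  {L : Type} [Field L] [Algebra k L] [Module.Finite k L]

/-- Extensions of coprime degree are linearly disjoint over a field. -/
theorem isField_tensor_of_coprime [Module.Finite k κ]
    (hco : (Module.finrank k κ).Coprime (Module.finrank k L)) : IsField (κ ⊗[k] L) := by
  haveI : Nontrivial (κ ⊗[k] L) :=
    (Algebra.TensorProduct.includeLeft_injective (S := k) (A := κ) (algebraMap k L).injective).nontrivial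
  obtain ⟨K, _, _, q, hq⟩ : ∃ (K : Type u) (_ : Field K) (_ : Algebra k K) (q : κ ⊗[k] L →ₐ[k] K),
      Function.Surjective q := by
    obtain ⟨M, hM⟩ := Ideal.exists_maximal (κ ⊗[k] L)
    exact ⟨_, Ideal.Quotient.field M, inferInstance, Ideal.Quotient.mkₐ k M, Ideal.Quotient.mk_surjective⟩
  haveI : Module.Finite k K := Module.Finite.of_surjective q.toLinearMap hq
  let iκ : κ →ₐ[k] K := q.comp Algebra.TensorProduct.includeLeft
  let iL : L →ₐ[k] K := q.comp Algebra.TensorProduct.includeRight
  have hκ : Module.finrank k κ ∣ Module.finrank k K := by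
    letI := iκ.toRingHom.toAlgebra
    haveI : IsScalarTower k κ K := IsScalarTower.of_algebraMap_eq fun x => (iκ.commutes x).symm
    exact ⟨_, (Module.finrank_mul_finrank k κ K).symm⟩
  have hL : Module.finrank k L ∣ Module.finrank k K := by
    letI := iL.toRingHom.toAlgebra
    haveI : IsScalarTower k L K := IsScalarTower.of_algebraMap_eq fun x => (iL.commutes x).symm
    exact ⟨_, (Module.finrank_mul_finrank k L K).symm⟩
  have hdvd := hco.mul_dvd_of_dvd_of_dvd hκ hL
  have hKpos : 0 < Module.finrank k K := Module.finrank_pos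
  have h1 : Module.finrank k (κ ⊗[k] L) = Module.finrank k κ * Module.finrank k L := Module.finrank_tensorProduct
  have h2 : Module.finrank k (κ ⊗[k] L) ≤ Module.finrank k K := h1 ▸ Nat.le_of_dvd hKpos hdvd
  have hker : LinearMap.ker q.toLinearMap = ⊥ := by
    have h3 := q.toLinearMap.finrank_range_add_finrank_ker
    rw [LinearMap.range_eq_top.mpr hq, finrank_top] at h3
    exact Submodule.finrank_eq_zero.mp (by omega)
  exact MulEquiv.isField (Field.toIsField K)
    (RingEquiv.ofBijective q.toRingHom ⟨LinearMap.ker_eq_bot.mp hker, hq⟩).toMulEquiv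

/-- A finite base change with field residue is local. -/
theorem isLocalRing_tensor [IsLocalRing A] (π : A →ₐ[k] κ) (hπ : Function.Surjective π)
    (hfield : IsField (κ ⊗[k] L)) : IsLocalRing (A ⊗[k] L) := by
  let π' : A ⊗[k] L →ₐ[k] κ ⊗[k] L := Algebra.TensorProduct.map π (AlgHom.id k L)
  have hπ' : Function.Surjective π' := TensorProduct.map_surjective hπ (fun x => ⟨x, rfl⟩)
  have hmaxκ : (RingHom.ker π.toRingHom) = IsLocalRing.maximalIdeal A :=
    IsLocalRing.eq_maximalIdeal (RingHom.ker_isMaximal_of_surjective π.toRingHom hπ)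
  have hker : RingHom.ker π' = (RingHom.ker π).map (Algebra.TensorProduct.includeLeft : A →ₐ[k] A ⊗[k] L) :=
    Algebra.TensorProduct.rTensor_ker π hπ
  letI : Field (κ ⊗[k] L) := hfield.toField
  have hmax : (RingHom.ker π'.toRingHom).IsMaximal := RingHom.ker_isMaximal_of_surjective π'.toRingHom hπ'
  refine IsLocalRing.of_unique_max_ideal ⟨RingHom.ker π'.toRingHom, hmax, fun M hM => ?_⟩
  haveI := hM
  refine (hmax.eq_of_le hM.ne_top ?_).symm
  show RingHom.ker π' ≤ M
  rw [hker, Ideal.map_le_iff_le_comap]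
  haveI : Algebra.IsIntegral A (A ⊗[k] L) := Algebra.IsIntegral.of_finite A _
  have h1 : (M.comap (algebraMap A (A ⊗[k] L))).IsMaximal := Ideal.isMaximal_comap_of_isIntegral_of_isMaximal M
  have h2 := IsLocalRing.eq_maximalIdeal h1
  intro x hx
  have hx' : x ∈ IsLocalRing.maximalIdeal A := hmaxκ ▸ (show x ∈ RingHom.ker π.toRingHom from hx)
  rw [← h2] at hx'
  exact hx'

omit [Module.Finite k L] in
/-- Galois descent for a base change. -/
theorem mem_range_of_fixed [FiniteDimensional k L] [IsGalois k L] (x : A ⊗[k] L)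
    (hx : ∀ σ : Gal(L/k), Algebra.TensorProduct.map (AlgHom.id k A) σ.toAlgHom x = x) :
    x ∈ (Algebra.TensorProduct.includeLeft : A →ₐ[k] A ⊗[k] L).range := by
  obtain ⟨t, ht⟩ := Algebra.trace_surjective k L 1
  let tr : A ⊗[k] L →ₗ[k] A ⊗[k] L :=
    ∑ σ : Gal(L/k), (Algebra.TensorProduct.map (AlgHom.id k A) σ.toAlgHom).toLinearMap
  let tr' : A ⊗[k] L →ₗ[k] A ⊗[k] L := TensorProduct.map LinearMap.id ((Algebra.linearMap k L).comp (Algebra.trace k L))
  have htr : tr = tr' := TensorProduct.ext' fun a l => by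
    simp only [tr, tr', LinearMap.sum_apply, TensorProduct.map_tmul, LinearMap.id_coe, id_eq, LinearMap.comp_apply,
      Algebra.linearMap_apply, trace_eq_sum_automorphisms, TensorProduct.tmul_sum]
    rfl
  have hrange : ∀ z, tr' z ∈ (Algebra.TensorProduct.includeLeft : A →ₐ[k] A ⊗[k] L).range := by
    intro z
    induction z using TensorProduct.induction_on with
    | zero => rw [map_zero]; exact zero_mem _
    | tmul a l =>
      refine ⟨Algebra.trace k L l • a, ?_⟩
      show (Algebra.trace k L l • a) ⊗ₜ[k] (1 : L) = a ⊗ₜ[k] algebraMap k L (Algebra.trace k L l)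
      rw [TensorProduct.smul_tmul, Algebra.algebraMap_eq_smul_one]
    | add z w hz hw => rw [map_add]; exact add_mem hz hw
  have key : x = tr' (x * ((1 : A) ⊗ₜ[k] t)) := by
    rw [← htr]
    simp only [tr, LinearMap.sum_apply, AlgHom.toLinearMap_apply, map_mul, hx, ← Finset.mul_sum,
      Algebra.TensorProduct.map_tmul, map_one, ← TensorProduct.tmul_sum]
    have h1 : (∑ σ : Gal(L/k), σ.toAlgHom t) = 1 := by
      rw [← map_one (algebraMap k L), ← ht, trace_eq_sum_automorphisms]
      rfl
    rw [h1, ← Algebra.TensorProduct.one_def, _root_.mul_one]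
  rw [key]
  exact hrange _

end algebra

variable {k : Type u} [Field k] {T : Over (Spec (CommRingCat.of k))} [GrpObj T] [IsAffine T.left]
variable [Algebra k Γ(T.left, ⊤)] [IsDomain Γ(T.left, ⊤)]

/-- Lifting when the residue field has enough elements. -/
theorem exists_lift_of_eval (halg : algebraMap k Γ(T.left, ⊤) = strMap T) {n : ℕ} {c : Γ(T.left, ⊤)}
    {p : MvPolynomial (Fin n) k}
    (gm : Γ(T.left, ⊤) →ₐ[k] Localization.Away p) (ψ : Localization.Away p →ₐ[k] Localization.Away c)
    (hψgm : ψ.comp gm = IsScalarTower.toAlgHom k Γ(T.left, ⊤) (Localization.Away c))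
    {A κ : Type u} [CommRing A] [IsLocalRing A] [Algebra k A] [Field κ] [Algebra k κ] (π : A →ₐ[k] κ)
    (hπ : Function.Surjective π) (u z : Pts T (algebraMap k κ)) (hz : ev z c ≠ 0) (huz : ev (u * z) c ≠ 0) :
    ∃ s : Pts T (algebraMap k A), pullA π s = u := by
  obtain ⟨s₁, hs₁⟩ := exists_lift gm ψ halg hψgm π hπ z hz
  obtain ⟨s₂, hs₂⟩ := exists_lift gm ψ halg hψgm π hπ (u * z) huz
  have h1 : pullA π s₁ = z := hs₁
  have h2 : pullA π s₂ = u * z := hs₂
  exact ⟨s₂ * s₁⁻¹, by rw [map_mul, map_inv, h1, h2, mul_inv_cancel_right]⟩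

/-- A nonzero polynomial has a nonzero value over a large enough field. -/
theorem exists_eval₂_ne_zero {n : ℕ} {κ κ' : Type u} [Field κ] [Field κ'] (h : κ →+* κ')
    (F : MvPolynomial (Fin n) κ) (hF : F ≠ 0) (hcard : Infinite κ' ∨ F.totalDegree < Nat.card κ') :
    ∃ y : Fin n → κ', MvPolynomial.eval₂ h y F ≠ 0 := by
  have hF' : MvPolynomial.map h F ≠ 0 :=
    fun e => hF (MvPolynomial.map_injective h h.injective (e.trans (map_zero _).symm))
  obtain ⟨S, hS⟩ : ∃ S : Finset κ', F.totalDegree < S.card := by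
    rcases hcard with hi | hc
    · obtain ⟨S, hS⟩ := Infinite.exists_subset_card_eq κ' (F.totalDegree + 1)
      exact ⟨S, by omega⟩
    · haveI : Finite κ' := Nat.finite_of_card_ne_zero (by omega)
      letI := Fintype.ofFinite κ'
      exact ⟨Finset.univ, by rwa [Finset.card_univ, ← Nat.card_eq_fintype_card]⟩
  by_contra! hall
  refine hF' (MvPolynomial.eq_zero_of_eval_zero_at_prod_finset _ (fun _ => S) (fun i => ?_) fun y _ => ?_)
  · exact lt_of_le_of_lt ((MvPolynomial.degreeOf_le_totalDegree _ i).trans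
      (Finset.sup_mono (MvPolynomial.support_map_subset h F))) hS
  · rw [MvPolynomial.eval_map]
    exact hall y

/-- A point of a retract rational torus with values in a residue field lifts. -/
theorem exists_lift_local {r : ℕ} (hT : TwC.Locally (Spec (CommRingCat.of k)) .finiteEtale
      (fun S' g => Red.IsSplitTorusWith (Fin r → ℤ) (Red.bc g T)))
    (halg : algebraMap k Γ(T.left, ⊤) = strMap T) {n : ℕ} {c : Γ(T.left, ⊤)} {p : MvPolynomial (Fin n) k}
    (gm : Γ(T.left, ⊤) →ₐ[k] Localization.Away p) (ψ : Localization.Away p →ₐ[k] Localization.Away c)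
    (hc : c ≠ 0) (hψgm : ψ.comp gm = IsScalarTower.toAlgHom k Γ(T.left, ⊤) (Localization.Away c))
    {A κ : Type u} [CommRing A] [IsLocalRing A] [Algebra k A] [Field κ] [Algebra k κ] (π : A →ₐ[k] κ)
    (hπ : Function.Surjective π) (u : Pts T (algebraMap k κ)) : ∃ s : Pts T (algebraMap k A), pullA π s = u := by
  classical
  obtain ⟨F, hF, hgood⟩ := exists_good_polynomial gm ψ halg hc hψgm u
  rcases finite_or_infinite κ with hfin | hinf
  swap
  · obtain ⟨y, hy⟩ := exists_eval₂_ne_zero (RingHom.id κ) F hF (Or.inl hinf)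
    obtain ⟨z, hz, huz⟩ := hgood κ (AlgHom.id k κ) y hy
    have hid : pullA (AlgHom.id k κ) u = u := pull_id _ u
    exact exists_lift_of_eval halg gm ψ hψgm π hπ u z hz (by rw [← hid]; exact huz)
  haveI : Finite k := Finite.of_injective _ (algebraMap k κ).injective
  haveI : Module.Finite k κ := Module.Finite.of_finite
  obtain ⟨p₀, hp₀⟩ := CharP.exists k
  haveI : Fact p₀.Prime := ⟨(CharP.char_is_prime_or_zero k p₀).resolve_right fun e => by
    subst e
    haveI := CharP.charP_to_charZero k
    exact not_finite k⟩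
  have key : ∀ m : ℕ, m.Prime → Module.finrank k κ < m → F.totalDegree < m →
      ∃ s : Pts T (algebraMap k A), pullA π s = u ^ m := by
    intro m hm hd hD
    haveI : NeZero m := ⟨hm.ne_zero⟩
    let L := FiniteField.Extension k p₀ m
    have hLm : Module.finrank k L = m := FiniteField.finrank_extension k p₀ m
    have hco : (Module.finrank k κ).Coprime (Module.finrank k L) := by
      rw [hLm, Nat.coprime_comm, hm.coprime_iff_not_dvd]
      exact fun h => absurd (Nat.le_of_dvd Module.finrank_pos h) (by omega)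
    have hfield := isField_tensor_of_coprime hco
    haveI := isLocalRing_tensor π hπ hfield
    letI : Field (κ ⊗[k] L) := hfield.toField
    let incA : A →ₐ[k] A ⊗[k] L := Algebra.TensorProduct.includeLeft
    let incK : κ →ₐ[k] κ ⊗[k] L := Algebra.TensorProduct.includeLeft
    let π' : A ⊗[k] L →ₐ[k] κ ⊗[k] L := Algebra.TensorProduct.map π (AlgHom.id k L)
    have hπ' : Function.Surjective π' := TensorProduct.map_surjective hπ (fun x => ⟨x, rfl⟩)
    have hcard : F.totalDegree < Nat.card (κ ⊗[k] L) := by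
      rw [Module.natCard_eq_pow_finrank (K := k), Module.finrank_tensorProduct, hLm]
      have h1 : m ≤ Module.finrank k κ * m := Nat.le_mul_of_pos_left m Module.finrank_pos
      have h2 : Module.finrank k κ * m < Nat.card k ^ (Module.finrank k κ * m) := Nat.lt_pow_self Finite.one_lt_card
      omega
    obtain ⟨y, hy⟩ := exists_eval₂_ne_zero incK.toRingHom F hF (Or.inr hcard)
    obtain ⟨z, hz, huz⟩ := hgood (κ ⊗[k] L) incK y hy
    obtain ⟨x, hx⟩ := exists_lift_of_eval halg gm ψ hψgm π' hπ' (pullA incK u) z hz huz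
    letI : CommGroup (Pts T (algebraMap k (A ⊗[k] L))) :=
      { (inferInstance : Group (Pts T (algebraMap k (A ⊗[k] L)))) with mul_comm := pts_mul_comm hT }
    letI : CommGroup (Pts T (algebraMap k (κ ⊗[k] L))) :=
      { (inferInstance : Group (Pts T (algebraMap k (κ ⊗[k] L)))) with mul_comm := pts_mul_comm hT }
    let act : Gal(L/k) → (A ⊗[k] L →ₐ[k] A ⊗[k] L) := fun σ => Algebra.TensorProduct.map (AlgHom.id k A) σ.toAlgHom
    let N : Pts T (algebraMap k (A ⊗[k] L)) := ∏ σ : Gal(L/k), pullA (act σ) x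
    have hfix : ∀ τ, pullA (act τ) N = N := by
      intro τ
      simp only [N, map_prod, pullA_pullA]
      refine Fintype.prod_equiv (Equiv.mulLeft τ) _ _ fun σ => ?_
      congr 1
      congr 1
      exact Algebra.TensorProduct.ext' fun a l => rfl
    obtain ⟨s, hs⟩ : ∃ s, pullA incA s = N := by
      refine exists_pull_eq incA.toRingHom (RingHom.ext incA.commutes)
        (Algebra.TensorProduct.includeLeft_injective (S := k) (algebraMap k L).injective) N fun b => ?_
      refine mem_range_of_fixed (ev N b) fun τ => ?_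
      exact (ev_pullA (act τ) N b).symm.trans (congrArg (fun v => ev v b) (hfix τ))
    refine ⟨s, pull_injective incK.toRingHom (RingHom.ext incK.commutes)
      (Algebra.TensorProduct.includeLeft_injective (S := k) (algebraMap k L).injective) ?_⟩
    show pullA incK (pullA π s) = pullA incK (u ^ m)
    have hcomm : incK.comp π = π'.comp incA :=
      AlgHom.ext fun a => (congrArg (π a ⊗ₜ[k] ·) (rfl : (1 : L) = 1))
    rw [pullA_pullA, hcomm, ← pullA_pullA, hs, map_prod]
    have hterm : ∀ σ : Gal(L/k), pullA π' (pullA (act σ) x) = pullA incK u := by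
      intro σ
      let act' : κ ⊗[k] L →ₐ[k] κ ⊗[k] L := Algebra.TensorProduct.map (AlgHom.id k κ) σ.toAlgHom
      have h1 : π'.comp (act σ) = act'.comp π' := Algebra.TensorProduct.ext' fun a l => rfl
      have h2 : act'.comp incK = incK := AlgHom.ext fun a => by
        show a ⊗ₜ[k] σ (1 : L) = a ⊗ₜ[k] (1 : L)
        rw [map_one]
      rw [pullA_pullA, h1, ← pullA_pullA, hx, pullA_pullA, h2]
    rw [Finset.prod_congr rfl fun σ _ => hterm σ, Finset.prod_const, map_pow, Finset.card_univ,
      FiniteField.card_algEquiv_extension]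
  obtain ⟨m₁, hm₁, hp₁⟩ := Nat.exists_infinite_primes (max (Module.finrank k κ) F.totalDegree + 1)
  obtain ⟨m₂, hm₂, hp₂⟩ := Nat.exists_infinite_primes (m₁ + 1)
  obtain ⟨s₁, hs₁⟩ := key m₁ hp₁ (by omega) (by omega)
  obtain ⟨s₂, hs₂⟩ := key m₂ hp₂ (by omega) (by omega)
  have hco : m₁.Coprime m₂ := (Nat.coprime_primes hp₁ hp₂).mpr (by omega)
  refine ⟨s₁ ^ Nat.gcdA m₁ m₂ * s₂ ^ Nat.gcdB m₁ m₂, ?_⟩
  rw [map_mul, map_zpow, map_zpow, hs₁, hs₂, ← zpow_natCast, ← zpow_natCast u m₂, ← zpow_mul, ← zpow_mul, ← zpow_add,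
    ← Nat.gcd_eq_gcd_ab, hco.gcd_eq_one, Nat.cast_one, zpow_one]

end GrothLib.TorusPts
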