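import Groth.Agent.Lib.TorusPts.Affine
import Groth.Agent.Lib.TorusPts.Field
import Mathlib.RingTheory.Valuation.ValuationSubring
import Mathlib.FieldTheory.Galois.Basic

/-!
# Points of an isotrivial torus over the completion of a discrete valuation ring
-/

universe u

open CategoryTheory CategoryTheory.Limits MonoidalCategory CartesianMonoidalCategory MonObj AlgebraicGeometry
open scoped TensorProduct
open IsDedekindDomain

namespace GrothLib.TorusPts

variable {A : Type u} [CommRing A] [IsDomain A] [IsDiscreteValuationRing A] (v : HeightOneSpectrum A)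
  (T : Over (Spec (CommRingCat.of A))) [GrpObj T]

local notation "K" => FractionRing A
local notation "Kh" => v.adicCompletion (FractionRing A)
local notation "Ah" => v.adicCompletionIntegers (FractionRing A)

set_option maxHeartbeats 1000000 in
/-- `T(K̂) = T(Â) T(K)` for an isotrivial torus. -/
theorem exists_mul_eq {r : ℕ} (hT : TwC.Locally (Spec (CommRingCat.of A)) .finiteEtale
      (fun S' g => Red.IsSplitTorusWith (Fin r → ℤ) (Red.bc g T)))
    (x : Pts T (algebraMap A Kh)) :
    ∃ (a : Pts T (algebraMap A Ah)) (b : Pts T (algebraMap A (FractionRing A))),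
      x = pull (algebraMap Ah Kh) (IsScalarTower.algebraMap_eq A Ah Kh).symm a *
        pull (algebraMap (FractionRing A) Kh) (IsScalarTower.algebraMap_eq A (FractionRing A) Kh).symm b := by
  classical
  obtain ⟨π, hπ⟩ := IsDiscreteValuationRing.exists_irreducible A
  haveI : Nonempty (Spec (CommRingCat.of A)) := ⟨IsLocalRing.closedPoint A⟩
  obtain ⟨A₁, _, _, _, _, _, hsplit⟩ := exists_splitting hT
  obtain ⟨L, _, _, _, _, O, hfinL, hgal, hfinO, hurO, hstab, hfrac, hA₁⟩ := exists_galois_subring A A₁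
  haveI := hfinL
  haveI := hgal
  haveI := hfinO
  haveI := hurO
  obtain ⟨e⟩ := hsplit O hA₁
  have hinjA : Function.Injective (algebraMap A O) := fun a b hab => IsFractionRing.injective A K
    ((algebraMap K L).injective (by
      rw [← IsScalarTower.algebraMap_apply, ← IsScalarTower.algebraMap_apply]
      exact congrArg Subtype.val hab))
  haveI : Module.IsTorsionFree A O := by
    refine .of_smul_eq_zero fun a o hao => ?_
    rw [Algebra.smul_def] at hao
    exact (mul_eq_zero.mp hao).imp_left fun h => hinjA (h.trans (map_zero _).symm)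
  haveI : Module.Free A O := Module.free_of_finite_type_torsion_free'
  haveI : Nontrivial O := inferInstance
  haveI : Module.FaithfullyFlat A O := inferInstance
  haveI : IsAffine T.left := isAffine_of_splitting e
  obtain ⟨hded, hfinmax, huni⟩ := unramified_dedekind hinjA π hπ
  -- the Galois group
  let G := L ≃ₐ[K] L
  letI actO : MulSemiringAction G O :=
    { smul := fun σ o => ⟨σ o, hstab σ o o.2⟩
      one_smul := fun o => rfl
      mul_smul := fun σ τ o => rfl
      smul_zero := fun σ => Subtype.ext (map_zero σ)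
      smul_add := fun σ a b => Subtype.ext (map_add σ a.1 b.1)
      smul_one := fun σ => Subtype.ext (map_one σ)
      smul_mul := fun σ a b => Subtype.ext (map_mul σ a.1 b.1) }
  haveI : IsFractionRing O L := by
    refine IsFractionRing.of_field O L fun z => ?_
    obtain ⟨a, o, ha, hao⟩ := hfrac z
    refine ⟨o, algebraMap A O a, ?_⟩
    have h0 : algebraMap A L a ≠ 0 := fun h => ha (IsFractionRing.injective A K
      ((algebraMap K L).injective (by rw [← IsScalarTower.algebraMap_apply, h, map_zero, map_zero])))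
    show z = (o : L) / algebraMap A L a
    rw [eq_div_iff h0, ← hao, Algebra.smul_def, _root_.mul_comm]
  have hπfix : ∀ σ : G, σ • algebraMap A O π = algebraMap A O π := fun σ => Subtype.ext (by
    show σ (algebraMap A L π) = algebraMap A L π
    rw [IsScalarTower.algebraMap_apply A K L, AlgEquiv.commutes])
  obtain ⟨s, hs1, hsdec, hseq⟩ := exists_retraction (G := G) (algebraMap A O π) hπfix huni L (fun σ o => rfl)
  -- the rings
  let R2 := L ⊗[FractionRing A] Kh
  let incL : L →+* R2 := Algebra.TensorProduct.includeLeftRingHom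
  let incK : Kh →+* R2 := (Algebra.TensorProduct.includeRight : Kh →ₐ[FractionRing A] R2).toRingHom
  let i2 : A →+* R2 := algebraMap A R2
  let κ := kappa v O
  let j2 : O →+* R2 := incL.comp O.val.toRingHom
  have hj2 : j2.comp (algebraMap A O) = i2 := RingHom.ext fun a => rfl
  have hincK : incK.comp (algebraMap A Kh) = i2 := RingHom.ext fun a => (algebraMap_tensor a).symm
  let x' := pull incK hincK x
  let χ : Multiplicative (Fin r → ℤ) →* R2 := coord e j2 hj2 x'
  let χu : Multiplicative (Fin r → ℤ) →* R2ˣ := χ.toHomUnits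
  let uL : Lˣ →* R2ˣ := Units.map incL.toMonoidHom
  let uκ : (O ⊗[A] Ah)ˣ →* R2ˣ := Units.map κ.toMonoidHom
  have hdec : ∀ m, ∃ (l : Lˣ) (w : (O ⊗[A] Ah)ˣ), χu m = uL l * uκ w := fun m => exists_decomp hπ hfrac (χu m)
  choose l w hlw using hdec
  -- uniqueness
  have huniq : ∀ (l l' : Lˣ) (w w' : (O ⊗[A] Ah)ˣ), uL l * uκ w = uL l' * uκ w' → s l = s l' := by
    intro l l' w w' h
    have h1 : uL (l * l'⁻¹) = uκ (w' * w⁻¹) := by
      rw [map_mul, map_inv, map_mul, map_inv, ← div_eq_mul_inv, ← div_eq_mul_inv, div_eq_div_iff_mul_eq_mul, h,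
        _root_.mul_comm]
    have hm : ((l * l'⁻¹ : Lˣ) : L) ∈ O :=
      mem_of_includeLeft_mem hπ hfrac _ _ (congrArg Units.val h1)
    have hm' : (((l * l'⁻¹)⁻¹ : Lˣ) : L) ∈ O := by
      refine mem_of_includeLeft_mem hπ hfrac _ (((w' * w⁻¹)⁻¹ : (O ⊗[A] Ah)ˣ) : O ⊗[A] Ah) ?_
      have h2 := congrArg (fun q : R2ˣ => ((q⁻¹ : R2ˣ) : R2)) h1
      simp only [← map_inv] at h2
      exact h2
    let u : Oˣ := ⟨⟨_, hm⟩, ⟨_, hm'⟩, Subtype.ext (Units.mul_inv (l * l'⁻¹)), Subtype.ext (Units.inv_mul (l * l'⁻¹))⟩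
    have h3 := hs1 u
    rw [show Units.map (algebraMap O L).toMonoidHom u = l * l'⁻¹ from Units.ext rfl, map_mul, map_inv,
      mul_inv_eq_one] at h3
    exact h3
  -- the rational coordinates
  let β : Multiplicative (Fin r → ℤ) →* Lˣ := MonoidHom.mk' (fun m => s (l m)) fun m m' => by
    rw [← map_mul s]
    refine huniq _ _ (w (m * m')) (w m * w m') ?_
    rw [← hlw, map_mul, hlw, hlw, map_mul, map_mul]
    exact _root_.mul_mul_mul_comm (uL (l m)) (uκ (w m)) (uL (l m')) (uκ (w m'))
  have hβ : ∀ m, β m = s (l m) := fun m => rfl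
  let jL : O →+* L := O.val.toRingHom
  let iL : A →+* L := algebraMap A L
  have hjL : jL.comp (algebraMap A O) = iL := RingHom.ext fun a => rfl
  let y := (coord e jL hjL).symm ((Units.coeHom L).comp β)
  -- invariance
  have hinv : ∀ σ : G, pull (i := iL) (i' := iL) (σ : L →ₐ[K] L).toRingHom (RingHom.ext fun a => by
      show σ (algebraMap A L a) = algebraMap A L a
      rw [IsScalarTower.algebraMap_apply A K L, AlgEquiv.commutes]) y = y := by
    intro σ
    let σO : O →+* O := MulSemiringAction.toRingHom G O σ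
    have hσO : σO.comp (algebraMap A O) = algebraMap A O := RingHom.ext fun a => Subtype.ext (by
      show σ (algebraMap A L a) = algebraMap A L a
      rw [IsScalarTower.algebraMap_apply A K L, AlgEquiv.commutes])
    obtain ⟨f, hf⟩ := exists_twist e σO hσO
    let σ2 : R2 →+* R2 := (Algebra.TensorProduct.map (σ : L →ₐ[K] L) (AlgHom.id K Kh)).toRingHom
    have hσL : ∀ z, σ2 (incL z) = incL (σ z) := fun z => rfl
    have hσK : ∀ k, σ2 (incK k) = incK k := fun k => by
      show (σ (1 : L)) ⊗ₜ[K] k = _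
      rw [map_one]; rfl
    have hi2 : σ2.comp i2 = i2 := RingHom.ext fun a => by
      show σ2 (i2 a) = i2 a
      rw [show i2 a = incK (algebraMap A Kh a) from algebraMap_tensor a, hσK]
    have hσx : pull σ2 hi2 x' = x' := by
      rw [pull_pull incK hincK σ2 hi2 x]
      exact pull_congr (RingHom.ext hσK) _ x
    have hjj : σ2.comp j2 = j2.comp σO := RingHom.ext fun o => rfl
    have key : ∀ m, σ2 (χ m) = χ (f m) := by
      intro m
      have h1 := coord_pull e j2 (j2.comp σO) hj2 (i' := i2) (by rw [RingHom.comp_assoc, hσO, hj2]) σ2 hi2 hjj x'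
      rw [hσx] at h1
      exact (DFunLike.congr_fun h1 m).symm.trans (hf R2 j2 i2 hj2 x' m)
    let σ1 : O ⊗[A] Ah →+* O ⊗[A] Ah := (Algebra.TensorProduct.map
      ({ σO with commutes' := fun a => RingHom.congr_fun hσO a } : O →ₐ[A] O) (AlgHom.id A Ah)).toRingHom
    have hσκ : ∀ z, σ2 (κ z) = κ (σ1 z) := by
      intro z
      induction z using TensorProduct.induction_on with
      | zero => simp only [map_zero]
      | tmul o c =>
        show σ2 (kappa v O (o ⊗ₜ c)) = kappa v O ((σO o) ⊗ₜ c)
        rw [kappa_tmul, kappa_tmul]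
        rfl
      | add a b ha hb => simp only [map_add, ha, hb]
    have hβσ : ∀ m, σ (β m : L) = β (f m) := by
      intro m
      have h1 : uL (Units.map (MulDistribMulAction.toMonoidHom L σ) (l m)) * uκ (Units.map σ1.toMonoidHom (w m)) =
          uL (l (f m)) * uκ (w (f m)) := by
        rw [← hlw]
        refine Units.ext ?_
        show incL (σ (l m : L)) * κ (σ1 (w m : O ⊗[A] Ah)) = χ (f m)
        rw [← hσκ, ← hσL, ← map_mul, ← key]
        exact congrArg σ2 (congrArg Units.val (hlw m)).symm
      have h2 := huniq _ _ _ _ h1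
      rw [hseq] at h2
      exact congrArg Units.val h2
    apply (coord e (jL.comp σO) (by rw [RingHom.comp_assoc, hσO, hjL])).injective
    rw [coord_pull e jL (jL.comp σO) hjL _ (σ : L →ₐ[K] L).toRingHom _ (RingHom.ext fun o => rfl)]
    refine MonoidHom.ext fun m => ?_
    rw [hf L jL iL hjL y m]
    simp only [y, MulEquiv.apply_symm_apply]
    exact hβσ m
  -- the rational point
  obtain ⟨bK, hbK⟩ : ∃ bK : Pts T (algebraMap A K),
      pull (algebraMap K L) (IsScalarTower.algebraMap_eq A K L).symm bK = y := by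
    refine exists_pull_eq _ _ (algebraMap K L).injective y fun z => ?_
    have hfix : ∀ σ : G, σ (ev y z) = ev y z := fun σ => by
      have h := congrArg (fun q : Pts T iL => ev q z) (hinv σ)
      simp only [ev_pull] at h
      exact h
    have := (IsGalois.mem_bot_iff_fixed (F := K) (ev y z : L)).mpr hfix
    exact IntermediateField.mem_bot.mp this
  -- the integral point
  let b' := pull (algebraMap (FractionRing A) Kh) (IsScalarTower.algebraMap_eq A (FractionRing A) Kh).symm bK
  let d := x * b'⁻¹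
  let j1 : O →+* O ⊗[A] Ah := Algebra.TensorProduct.includeLeftRingHom
  let i1 : A →+* O ⊗[A] Ah := algebraMap A (O ⊗[A] Ah)
  have hj1 : j1.comp (algebraMap A O) = i1 := RingHom.ext fun a => rfl
  have hκj : κ.toRingHom.comp j1 = j2 := RingHom.ext fun o => kappa_tmul v O o 1
  have hκi : κ.toRingHom.comp i1 = i2 := RingHom.ext fun a => κ.commutes a
  let δ := coord e j2 hj2 (pull incK hincK d)
  have hδ : ∀ m, ∃ q : (O ⊗[A] Ah)ˣ, δ m = κ (q : O ⊗[A] Ah) := by
    intro m
    obtain ⟨u₀, hu₀⟩ := hsdec (l m)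
    let u₁ : (O ⊗[A] Ah)ˣ := Units.map j1.toMonoidHom u₀
    refine ⟨u₁ * w m, ?_⟩
    have hb : coord e j2 hj2 (pull incK hincK b') m = incL (β m : L) := by
      have hL : incK.comp (algebraMap (FractionRing A) Kh) = incL.comp (algebraMap K L) := RingHom.ext fun k => by
        show (1 : L) ⊗ₜ[K] algebraMap K Kh k = algebraMap K L k ⊗ₜ[K] (1 : Kh)
        rw [Algebra.algebraMap_eq_smul_one, Algebra.algebraMap_eq_smul_one, TensorProduct.tmul_smul,
          TensorProduct.smul_tmul']
      have hy : pull incK hincK b' = pull incL (RingHom.ext fun a => rfl : incL.comp iL = i2) y := by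
        rw [← hbK, pull_pull, pull_pull]
        exact pull_congr hL _ bK
      rw [hy, coord_pull e jL j2 hjL hj2 incL _ rfl y]
      simp only [y, MulEquiv.apply_symm_apply]
      rfl
    have hprod : δ m * ((uL (β m) : R2ˣ) : R2) = ((χu m : R2ˣ) : R2) := by
      rw [show ((uL (β m) : R2ˣ) : R2) = incL (β m : L) from rfl, ← hb]
      show (coord e j2 hj2 (pull incK hincK (x * b'⁻¹)) * coord e j2 hj2 (pull incK hincK b')) m = χ m
      rw [← map_mul, ← map_mul, _root_.inv_mul_cancel_right]
    rw [(Units.eq_mul_inv_iff_mul_eq _).mpr hprod, ← Units.val_mul]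
    show _ = ((uκ (u₁ * w m) : R2ˣ) : R2)
    refine congrArg Units.val ?_
    have hu' : uκ u₁ = uL (Units.map (algebraMap O L).toMonoidHom u₀) := Units.ext (kappa_tmul v O u₀ 1)
    rw [hlw m, hu₀, map_mul uL, map_mul uκ, ← hu', hβ]
    rw [_root_.mul_assoc (uκ u₁) (uL (s (l m))) (uκ (w m)), _root_.mul_comm (uL (s (l m))) (uκ (w m)),
      ← _root_.mul_assoc, _root_.mul_inv_cancel_right]
  choose q hq using fun i : Fin r => hδ (Multiplicative.ofAdd (Pi.single i (1 : ℤ)))
  let ψ : Multiplicative (Fin r → ℤ) →* (O ⊗[A] Ah) := (Units.coeHom _).comp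
    (MonoidHom.mk' (fun m : Multiplicative (Fin r → ℤ) => ∏ i, q i ^ (m.toAdd i)) fun a b => by
      rw [← Finset.prod_mul_distrib]
      exact Finset.prod_congr rfl fun i _ => by rw [toAdd_mul, Pi.add_apply, zpow_add])
  have hψ : (κ.toRingHom : O ⊗[A] Ah →* R2).comp ψ = δ := by
    refine MonoidHom.ext fun m => ?_
    have hm : m = ∏ i, Multiplicative.ofAdd (Pi.single i (1 : ℤ)) ^ (m.toAdd i) := by
      apply Multiplicative.toAdd.injective
      rw [toAdd_prod]
      funext k
      simp [Finset.sum_apply, Pi.single_apply]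
    have hδu : δ m = ((δ.toHomUnits m : R2ˣ) : R2) := rfl
    rw [hδu]
    conv_rhs => rw [hm, map_prod]
    show κ ((∏ i, q i ^ (m.toAdd i) : (O ⊗[A] Ah)ˣ) : O ⊗[A] Ah) = _
    rw [show κ ((∏ i, q i ^ (m.toAdd i) : (O ⊗[A] Ah)ˣ) : O ⊗[A] Ah) =
      ((uκ (∏ i, q i ^ (m.toAdd i)) : R2ˣ) : R2) from rfl, map_prod]
    refine congrArg Units.val (Finset.prod_congr rfl fun i _ => ?_)
    rw [map_zpow, map_zpow]
    exact congrArg (· ^ (m.toAdd i)) (Units.ext (hq i).symm)
  let c := (coord e j1 hj1).symm ψ
  have hc : pull κ.toRingHom hκi c = pull incK hincK d := by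
    apply (coord e j2 hj2).injective
    rw [coord_pull e j1 j2 hj1 hj2 κ.toRingHom hκi hκj c]
    simp only [c, MulEquiv.apply_symm_apply]
    exact hψ
  obtain ⟨a, ha⟩ : ∃ a : Pts T (algebraMap A Ah),
      pull (algebraMap Ah Kh) (IsScalarTower.algebraMap_eq A Ah Kh).symm a = d := by
    refine exists_pull_eq _ _ (FaithfulSMul.algebraMap_injective Ah Kh) d fun z => ?_
    have h := congrArg (fun q : Pts T i2 => ev q z) hc
    simp only [ev_pull] at h
    set ρ : Kh := ev d z
    have h' : κ (ev c z) = incK ρ := h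
    letI : Algebra Ah (O ⊗[A] Ah) := Algebra.TensorProduct.rightAlgebra
    haveI : Module.Finite Ah (Ah ⊗[A] O) := Module.Finite.base_change A Ah O
    let ec : (Ah ⊗[A] O) ≃ₐ[Ah] (O ⊗[A] Ah) :=
      AlgEquiv.ofRingEquiv (f := (Algebra.TensorProduct.comm A Ah O).toRingEquiv) fun _ => rfl
    haveI : Module.Finite Ah (O ⊗[A] Ah) := Module.Finite.equiv ec.toLinearEquiv
    obtain ⟨P, hP, hP0⟩ := Algebra.IsIntegral.isIntegral (R := Ah) (ev c z : O ⊗[A] Ah)
    have hρ : IsIntegral Ah ρ := by
      refine ⟨P, hP, includeRight_injective (L := L) ?_⟩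
      show incK (Polynomial.eval₂ (algebraMap Ah Kh) ρ P) = incK 0
      rw [Polynomial.hom_eval₂, map_zero, ← h']
      have h3 := congrArg κ.toRingHom hP0
      rw [Polynomial.hom_eval₂, map_zero] at h3
      refine Eq.trans (congrArg (fun t => Polynomial.eval₂ t (κ (ev c z)) P) (RingHom.ext fun t => ?_)) h3
      show (1 : L) ⊗ₜ[K] (t : Kh) = kappa v O ((1 : O) ⊗ₜ t)
      rw [kappa_tmul]
      rfl
    exact IsIntegrallyClosed.isIntegral_iff.mp hρ
  refine ⟨a, bK, ?_⟩
  rw [ha]
  exact (_root_.inv_mul_cancel_right x b').symm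

end GrothLib.TorusPts
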