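import Groth.Agent.Lib.TorusPts.Model
import Mathlib.FieldTheory.SeparablyGenerated
import Mathlib.FieldTheory.PrimitiveElement
import Mathlib.FieldTheory.Minpoly.IsIntegrallyClosed
import Mathlib.RingTheory.DiscreteValuationRing.TFAE
import Mathlib.RingTheory.Polynomial.UniqueFactorization
import Mathlib.RingTheory.Algebraic.Integral

/-!
# A torus with lifting from residue fields of discrete valuation rings is retract rational

The function field is the residue field of the local ring of affine space at a hypersurface, so the generic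
point lifts to a rational map from affine space to the torus.
-/

universe u

open IntermediateField

namespace GrothLib.TorusPts

variable {k F : Type u} [Field k] [Field F] [Algebra k F]

/-- A finitely generated separably generated field is the residue field of affine space at a hypersurface. -/
theorem exists_hypersurface_point [Algebra.EssFiniteType k F] {t : Finset F}
    (ht : IsTranscendenceBasis k ((↑) : t → F))
    (hsep : Algebra.IsSeparable (IntermediateField.adjoin k (t : Set F)) F) :
    ∃ (N : ℕ) (θ : MvPolynomial (Fin N) k →ₐ[k] F), (RingHom.ker θ.toRingHom).IsPrincipal ∧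
      RingHom.ker θ.toRingHom ≠ ⊥ ∧ ∀ z : F, ∃ a b, θ b ≠ 0 ∧ z * θ b = θ a := by
  classical
  haveI := hsep
  let d := t.card
  let x : Fin d → F := fun i => (t.equivFin.symm i : F)
  have hx : AlgebraicIndependent k x := ht.1.comp _ t.equivFin.symm.injective
  have hrange : Set.range x = (t : Set F) := by
    ext z
    exact ⟨fun ⟨i, hi⟩ => hi ▸ (t.equivFin.symm i).2, fun hz => ⟨t.equivFin ⟨z, hz⟩, by simp [x]⟩⟩
  let E := IntermediateField.adjoin k (t : Set F)
  haveI : Algebra.EssFiniteType E F := Algebra.EssFiniteType.of_comp k E F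
  haveI : Algebra.IsAlgebraic E F := Algebra.IsSeparable.isAlgebraic E F
  haveI : FiniteDimensional E F := Algebra.finite_of_essFiniteType_of_isAlgebraic
  obtain ⟨α₀, hα₀⟩ := Field.exists_primitive_element E F
  let R := MvPolynomial (Fin d) k
  let ρ : R →ₐ[k] F := MvPolynomial.aeval x
  letI algR : Algebra R F := ρ.toRingHom.toAlgebra
  have hρ : Function.Injective ρ := hx
  have hEρ : ∀ e ∈ E, ∃ a b, ρ b ≠ 0 ∧ e * ρ b = ρ a := by
    intro e he
    have he' : e ∈ IntermediateField.adjoin k (Set.range x) := by rw [hrange]; exact he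
    rw [IntermediateField.mem_adjoin_range_iff] at he'
    obtain ⟨a, b, rfl⟩ := he'
    by_cases hb : ρ b = 0
    · exact ⟨0, 1, by simp, by simp [show MvPolynomial.aeval x b = 0 from hb]⟩
    · exact ⟨a, b, hb, div_mul_cancel₀ _ hb⟩
  haveI : Algebra.IsAlgebraic R F := by
    refine ⟨fun z => ?_⟩
    have ht' : IsTranscendenceBasis k x := ht.comp_equiv t.equivFin.symm
    haveI := ht'.isAlgebraic
    refine IsAlgebraic.of_ringHom_of_comp_eq (hx.aevalEquiv : R →+* Algebra.adjoin k (Set.range x))
      (RingHom.id F) (Algebra.IsAlgebraic.isAlgebraic z) hx.aevalEquiv.surjective Function.injective_id ?_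
    exact RingHom.ext fun r => hx.algebraMap_aevalEquiv r
  obtain ⟨y, hy, hyint⟩ := ((Algebra.IsAlgebraic.isAlgebraic (R := R) α₀)).exists_integral_multiple
  let α := y • α₀
  have hρy : ρ y ≠ 0 := fun h => hy (hρ (h.trans (map_zero ρ).symm))
  let θ : MvPolynomial (Fin (d + 1)) k →ₐ[k] F := MvPolynomial.aeval (Fin.cons α x)
  have hθ : θ = ((Polynomial.aeval (R := R) α).restrictScalars k).comp (MvPolynomial.finSuccEquiv k d).toAlgHom := by
    refine MvPolynomial.algHom_ext fun i => ?_
    refine Fin.cases ?_ (fun j => ?_) i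
    · simp [θ, MvPolynomial.finSuccEquiv_X_zero]
    · simp [θ, MvPolynomial.finSuccEquiv_X_succ, RingHom.algebraMap_toAlgebra, ρ]
      exact (MvPolynomial.aeval_X x j).symm
  haveI : FaithfulSMul R F := (faithfulSMul_iff_algebraMap_injective R F).mpr hρ
  haveI : IsIntegrallyClosed R := inferInstance
  let f := (MvPolynomial.finSuccEquiv k d).symm (minpoly R α)
  have hker : RingHom.ker θ.toRingHom = Ideal.span {f} := by
    ext z
    rw [RingHom.mem_ker, Ideal.mem_span_singleton]
    show θ z = 0 ↔ _
    rw [hθ]
    show Polynomial.aeval α (MvPolynomial.finSuccEquiv k d z) = 0 ↔ _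
    rw [minpoly.isIntegrallyClosed_dvd_iff hyint]
    exact ⟨fun h => by simpa [f] using map_dvd (MvPolynomial.finSuccEquiv k d).symm h,
      fun h => by simpa [f] using map_dvd (MvPolynomial.finSuccEquiv k d) h⟩
  refine ⟨d + 1, θ, ⟨⟨f, hker⟩⟩, ?_, fun z => ?_⟩
  · rw [hker]
    simp only [ne_eq, Ideal.span_singleton_eq_bot, f, EmbeddingLike.map_eq_zero_iff]
    exact minpoly.ne_zero hyint
  · have hx' : ∀ r : R, θ (MvPolynomial.rename Fin.succ r) = ρ r := fun r => by
      show MvPolynomial.aeval (Fin.cons α x) (MvPolynomial.rename Fin.succ r) = _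
      rw [MvPolynomial.aeval_rename]
      rfl
    have hz : z ∈ E⟮α₀⟯ := by rw [hα₀]; trivial
    have hz' : z ∈ Algebra.adjoin E {α₀} := by
      rw [← IntermediateField.adjoin_simple_toSubalgebra_of_isAlgebraic (Algebra.IsAlgebraic.isAlgebraic α₀)]
      exact hz
    clear hz
    induction hz' using Algebra.adjoin_induction with
    | mem w hw =>
      rw [Set.mem_singleton_iff.mp hw]
      refine ⟨MvPolynomial.X 0, MvPolynomial.rename Fin.succ y, by rwa [hx'], ?_⟩
      rw [hx']
      show α₀ * ρ y = MvPolynomial.aeval (Fin.cons α x) (MvPolynomial.X 0)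
      rw [MvPolynomial.aeval_X, Fin.cons_zero, mul_comm]
      rfl
    | algebraMap e =>
      obtain ⟨a, b, hb, hab⟩ := hEρ e e.2
      exact ⟨MvPolynomial.rename Fin.succ a, MvPolynomial.rename Fin.succ b, by rwa [hx'], by rw [hx', hx']; exact hab⟩
    | add v w _ _ hv hw =>
      obtain ⟨a, b, hb, hab⟩ := hv
      obtain ⟨a', b', hb', hab'⟩ := hw
      exact ⟨a * b' + a' * b, b * b', by rw [map_mul]; exact mul_ne_zero hb hb', by
        simp only [map_add, map_mul]; linear_combination θ b' * hab + θ b * hab'⟩
    | mul v w _ _ hv hw =>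
      obtain ⟨a, b, hb, hab⟩ := hv
      obtain ⟨a', b', hb', hab'⟩ := hw
      exact ⟨a * a', b * b', by rw [map_mul]; exact mul_ne_zero hb hb', by
        simp only [map_mul]; linear_combination θ a' * hab + v * θ b * hab'⟩

end GrothLib.TorusPts
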