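import Groth.Agent.Lib.TorusPts.Model
import Groth.Agent.Lib.TorusPts.Retract
import Mathlib.RingTheory.Localization.Away.Basic
import Mathlib.RingTheory.Localization.Integer
import Mathlib.RingTheory.FiniteStability

/-!
# Retract rationality of a torus with lifting from residue fields
-/

universe u

open CategoryTheory CategoryTheory.Limits AlgebraicGeometry

namespace GrothLib.TorusPts

variable {k B F : Type u} [Field k] [CommRing B] [Field F] [Algebra k B] [Algebra k F] [Algebra B F]
  [IsScalarTower k B F] [IsFractionRing B F]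

/-- A finitely generated subalgebra of the fraction field lies in a localization at one element. -/
theorem exists_away_factor {P : Type u} [CommRing P] [Algebra k P] [Algebra.FiniteType k P] [IsDomain B]
    (θ : P →ₐ[k] F) :
    ∃ c : B, c ≠ 0 ∧ ∀ (Bc : Type u) [CommRing Bc] [Algebra B Bc] [IsLocalization.Away c Bc] [Algebra k Bc]
      [IsScalarTower k B Bc] (j : Bc →ₐ[B] F), ∀ x, θ x ∈ j.toRingHom.range := by
  classical
  obtain ⟨s, hs⟩ := (inferInstance : Algebra.FiniteType k P).out
  obtain ⟨c, hc⟩ := IsLocalization.exist_integer_multiples_of_finset (nonZeroDivisors B) (s.image θ)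
  refine ⟨c, nonZeroDivisors.coe_ne_zero c, @fun Bc _ _ _ _ _ j x => ?_⟩
  have hx : x ∈ Algebra.adjoin k (s : Set P) := by rw [hs]; trivial
  let jk : Bc →ₐ[k] F := j.restrictScalars k
  suffices Algebra.adjoin k (s : Set P) ≤ jk.range.comap θ from this hx
  refine Algebra.adjoin_le fun z hz => ?_
  obtain ⟨b, hb⟩ := hc (θ z) (Finset.mem_image_of_mem θ hz)
  refine ⟨IsLocalization.mk' Bc b ⟨(c : B), Submonoid.mem_powers _⟩, ?_⟩
  have h1 := congrArg j (IsLocalization.mk'_spec Bc b ⟨(c : B), Submonoid.mem_powers _⟩)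
  rw [map_mul, AlgHom.commutes, AlgHom.commutes, hb, Algebra.smul_def, mul_comm] at h1
  exact mul_left_cancel₀ (IsFractionRing.to_map_ne_zero_of_mem_nonZeroDivisors c.2) h1

/-- The localization of a domain away from a nonzero element sits in the fraction field. -/
theorem exists_away_injective [IsDomain B] {c : B} (hc : c ≠ 0) :
    ∃ j : Localization.Away c →ₐ[B] F, Function.Injective j := by
  have hle : Submonoid.powers c ≤ nonZeroDivisors B := powers_le_nonZeroDivisors_of_noZeroDivisors hc
  refine ⟨IsLocalization.liftAlgHom (M := Submonoid.powers c) (f := Algebra.ofId B F) fun y =>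
    IsLocalization.map_units F (⟨y, hle y.2⟩ : nonZeroDivisors B), ?_⟩
  refine (IsLocalization.lift_injective_iff _).mpr fun x y => ?_
  exact ⟨fun h => congrArg _ ((IsLocalization.injective (Localization.Away c) hle) h),
    fun h => congrArg _ (IsFractionRing.injective B F h)⟩

/-- The ring-theoretic core: a section of the generic point spreads to a retraction. -/
theorem exists_retraction [Algebra.FiniteType k B] [IsDomain B] {N : ℕ} (θ : MvPolynomial (Fin N) k →ₐ[k] F)
    (h : ∀ (A : Type u) [CommRing A] [IsDomain A] [IsDiscreteValuationRing A] [Algebra k A]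
      (φ : B →ₐ[k] IsLocalRing.ResidueField A), ∃ σ : B →ₐ[k] A, ∀ b, IsLocalRing.residue A (σ b) = φ b)
    (hpr : (RingHom.ker θ.toRingHom).IsPrincipal) (hne : RingHom.ker θ.toRingHom ≠ ⊥)
    (hgen : ∀ z : F, ∃ a b, θ b ≠ 0 ∧ z * θ b = θ a) :
    ∃ (c : B) (p : MvPolynomial (Fin N) k) (Ph : Type u) (_ : CommRing Ph)
      (_ : Algebra (MvPolynomial (Fin N) k) Ph) (_ : IsLocalization.Away p Ph) (w : Ph)
      (g : Localization.Away c →+* Localization.Away w) (ψ : Localization.Away w →+* Localization.Away c),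
      c ≠ 0 ∧ ψ.comp g = RingHom.id _ ∧
      g.comp ((algebraMap B _).comp (algebraMap k B)) =
        (algebraMap Ph _).comp ((algebraMap (MvPolynomial (Fin N) k) Ph).comp (algebraMap k _)) ∧
      ψ.comp ((algebraMap Ph _).comp ((algebraMap (MvPolynomial (Fin N) k) Ph).comp (algebraMap k _))) =
        (algebraMap B _).comp (algebraMap k B) := by
  classical
  let P := MvPolynomial (Fin N) k
  let q : Ideal P := RingHom.ker θ.toRingHom
  haveI hq : q.IsPrime := RingHom.ker_isPrime _
  let A := Localization.AtPrime q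
  have hunit : ∀ y : q.primeCompl, IsUnit (θ y) := fun y => isUnit_iff_ne_zero.mpr fun e => y.2 (RingHom.mem_ker.mpr e)
  let ξ : A →ₐ[k] F := IsLocalization.liftAlgHom (M := q.primeCompl) (f := θ) hunit
  have hξ : ∀ x : P, ξ (algebraMap P A x) = θ x := fun x => IsLocalization.lift_eq (g := θ.toRingHom) hunit x
  have hsurj : Function.Surjective ξ := fun z => by
    obtain ⟨a, b, hb, hab⟩ := hgen z
    refine ⟨IsLocalization.mk' A a (⟨b, fun e => hb (RingHom.mem_ker.mp e)⟩ : q.primeCompl), ?_⟩
    refine mul_right_cancel₀ hb ?_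
    have h1 := congrArg ξ (IsLocalization.mk'_spec A a (⟨b, fun e => hb (RingHom.mem_ker.mp e)⟩ : q.primeCompl))
    rw [map_mul, hξ, hξ] at h1
    exact h1.trans hab.symm
  have hmax : IsLocalRing.maximalIdeal A = RingHom.ker ξ.toRingHom :=
    (IsLocalRing.eq_maximalIdeal (RingHom.ker_isMaximal_of_surjective ξ.toRingHom hsurj)).symm
  have hmap : IsLocalRing.maximalIdeal A = q.map (algebraMap P A) :=
    (Localization.AtPrime.map_eq_maximalIdeal).symm
  have hprA : (IsLocalRing.maximalIdeal A).IsPrincipal := by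
    obtain ⟨f, hf⟩ := hpr
    refine ⟨⟨algebraMap P A f, hmap.trans ((congrArg (Ideal.map (algebraMap P A)) hf).trans ?_)⟩⟩
    rw [← Set.image_singleton (f := algebraMap P A)]
    exact Ideal.map_span _ _
  have hnf : ¬ IsField A := by
    rw [IsLocalRing.isField_iff_maximalIdeal_eq, hmap,
      Ideal.map_eq_bot_iff_of_injective (IsLocalization.injective A q.primeCompl_le_nonZeroDivisors)]
    exact hne
  haveI : IsDiscreteValuationRing A := ((IsDiscreteValuationRing.TFAE A hnf).out 0 4).mpr hprA
  let ξr : IsLocalRing.ResidueField A ≃+* F :=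
    (Ideal.quotEquivOfEq hmax).trans (RingHom.quotientKerEquivOfSurjective hsurj)
  have hξr : ∀ x : A, ξr (IsLocalRing.residue A x) = ξ x := fun x => rfl
  let φ : B →ₐ[k] IsLocalRing.ResidueField A :=
    { ξr.symm.toRingHom.comp (algebraMap B F) with
      commutes' := fun r => ξr.injective (by
        show ξr (ξr.symm (algebraMap B F (algebraMap k B r))) = ξr (IsLocalRing.residue A (algebraMap k A r))
        rw [RingEquiv.apply_symm_apply, hξr, AlgHom.commutes, ← IsScalarTower.algebraMap_apply]) }
  obtain ⟨σ, hσ⟩ := h A φ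
  have hξσ : ∀ b, ξ (σ b) = algebraMap B F b := fun b => by
    rw [← hξr, hσ]; exact ξr.apply_symm_apply _
  -- spread σ out
  obtain ⟨s, hs⟩ := (inferInstance : Algebra.FiniteType k B).out
  obtain ⟨p, hp⟩ := IsLocalization.exist_integer_multiples_of_finset q.primeCompl (s.image σ)
  let Ph := Localization.Away (p : P)
  have hpA : ∀ y : Submonoid.powers (p : P), IsUnit (algebraMap P A y) := fun y => by
    obtain ⟨n, hn⟩ := y.2
    rw [← hn]
    show IsUnit (algebraMap P A ((p : P) ^ n))
    rw [map_pow]
    exact (IsLocalization.map_units A p).pow n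
  let lA : Ph →ₐ[k] A :=
    IsLocalization.liftAlgHom (M := Submonoid.powers (p : P)) (f := IsScalarTower.toAlgHom k P A) hpA
  have hlA : ∀ x : P, lA (algebraMap P Ph x) = algebraMap P A x :=
    fun x => IsLocalization.lift_eq (g := algebraMap P A) hpA x
  have hp0 : (p : P) ≠ 0 := fun e => p.2 (by rw [e]; exact zero_mem q)
  have hlinj : Function.Injective lA := by
    have hle : Submonoid.powers (p : P) ≤ nonZeroDivisors P := powers_le_nonZeroDivisors_of_noZeroDivisors hp0
    refine (IsLocalization.lift_injective_iff (g := algebraMap P A) hpA).mpr fun x y => ?_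
    exact ⟨fun e => congrArg _ ((IsLocalization.injective Ph hle) e),
      fun e => congrArg _ (IsLocalization.injective A q.primeCompl_le_nonZeroDivisors e)⟩
  have hrange : ∀ b, σ b ∈ lA.range := fun b => by
    have hb : b ∈ Algebra.adjoin k (s : Set B) := by rw [hs]; trivial
    suffices Algebra.adjoin k (s : Set B) ≤ lA.range.comap σ from this hb
    refine Algebra.adjoin_le fun z hz => ?_
    obtain ⟨x, hx⟩ := hp (σ z) (Finset.mem_image_of_mem σ hz)
    refine ⟨IsLocalization.mk' Ph x ⟨(p : P), Submonoid.mem_powers _⟩, ?_⟩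
    have h1 := congrArg lA (IsLocalization.mk'_spec Ph x ⟨(p : P), Submonoid.mem_powers _⟩)
    rw [map_mul, hlA, hlA, hx, Algebra.smul_def, mul_comm] at h1
    exact (IsLocalization.map_units A p).mul_left_cancel h1
  let g₀ : B →ₐ[k] Ph := (AlgEquiv.ofInjective lA hlinj).symm.toAlgHom.comp (σ.codRestrict lA.range hrange)
  have hg₀ : ∀ b, lA (g₀ b) = σ b := fun b =>
    congrArg Subtype.val ((AlgEquiv.ofInjective lA hlinj).apply_symm_apply ⟨σ b, hrange b⟩)
  haveI : Algebra.FiniteType P Ph := inferInstance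
  haveI : Algebra.FiniteType k Ph := Algebra.FiniteType.trans (R := k) (S := P) (A := Ph) inferInstance inferInstance
  let θh : Ph →ₐ[k] F := ξ.comp lA
  obtain ⟨c, hc0, hc⟩ := exists_away_factor (B := B) θh
  let Bc := Localization.Away c
  obtain ⟨j, hj⟩ := exists_away_injective (F := F) hc0
  let jk : Bc →ₐ[k] F := j.restrictScalars k
  let ψ₀ : Ph →ₐ[k] Bc := (AlgEquiv.ofInjective jk hj).symm.toAlgHom.comp (θh.codRestrict jk.range (hc Bc j))
  have hψ₀ : ∀ x, j (ψ₀ x) = θh x := fun x =>
    congrArg Subtype.val ((AlgEquiv.ofInjective jk hj).apply_symm_apply ⟨θh x, hc Bc j x⟩)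
  have hψg : ∀ b, ψ₀ (g₀ b) = algebraMap B Bc b := fun b => hj (by
    rw [hψ₀, AlgHom.commutes]
    show ξ (lA (g₀ b)) = _
    rw [hg₀, hξσ])
  let w : Ph := g₀ c
  let g : Bc →+* Localization.Away w :=
    IsLocalization.Away.lift c (g := (algebraMap Ph (Localization.Away w)).comp g₀.toRingHom)
      (IsLocalization.Away.algebraMap_isUnit w)
  have hw : IsUnit (ψ₀.toRingHom w) := by
    show IsUnit (ψ₀ (g₀ c))
    rw [hψg]
    exact IsLocalization.Away.algebraMap_isUnit c
  let ψ : Localization.Away w →+* Bc := IsLocalization.Away.lift w (g := ψ₀.toRingHom) hw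
  have hgB : ∀ b, g (algebraMap B Bc b) = algebraMap Ph _ (g₀ b) := fun b => IsLocalization.Away.lift_eq c _ b
  have hψP : ∀ x, ψ (algebraMap Ph _ x) = ψ₀ x := fun x => IsLocalization.Away.lift_eq w hw x
  refine ⟨c, p, Ph, inferInstance, inferInstance, inferInstance, w, g, ψ, hc0, ?_, ?_, ?_⟩
  · refine IsLocalization.ringHom_ext (Submonoid.powers c) (RingHom.ext fun b => ?_)
    show ψ (g (algebraMap B Bc b)) = algebraMap B Bc b
    rw [hgB, hψP, hψg]
  · refine RingHom.ext fun r => ?_
    show g (algebraMap B Bc (algebraMap k B r)) = algebraMap Ph _ (algebraMap P Ph (algebraMap k P r))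
    rw [hgB, AlgHom.commutes, ← IsScalarTower.algebraMap_apply k P Ph]
  · refine RingHom.ext fun r => ?_
    show ψ (algebraMap Ph _ (algebraMap P Ph (algebraMap k P r))) = algebraMap B Bc (algebraMap k B r)
    rw [hψP, ← IsScalarTower.algebraMap_apply k P Ph, AlgHom.commutes, ← IsScalarTower.algebraMap_apply k B Bc]

end GrothLib.TorusPts
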