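import Mathlib.RingTheory.DedekindDomain.PID
import Mathlib.RingTheory.DedekindDomain.Ideal.Lemmas
import Mathlib.RingTheory.Ideal.Pointwise
import Mathlib.RingTheory.UniqueFactorizationDomain.Basic
import Mathlib.RingTheory.Localization.FractionRing

/-!
# Units of the fraction field of a semilocal Dedekind domain, equivariantly

If a finite group acts on a semilocal Dedekind domain fixing a uniformizer of every prime, then the units of
the ring have an equivariant complement in the units of the fraction field.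
-/

universe u

open scoped Pointwise

namespace GrothLib.TorusPts

variable {O : Type u} [CommRing O] [IsDomain O] [IsDedekindDomain O]
  {G : Type*} [Group G] [MulSemiringAction G O]

/-- A generator of a maximal ideal fixed by its stabilizer. -/
theorem exists_fixed_uniformizer [Finite {P : Ideal O // P.IsMaximal}] [Finite G] (π : O)
    (hπ : ∀ g : G, g • π = π) (hmem : ∀ P : Ideal O, P.IsMaximal → π ∈ P ∧ π ∉ P ^ 2)
    (P : Ideal O) [hP : P.IsMaximal] :
    ∃ c : O, Ideal.span {c} = P ∧ ∀ g : G, g • P = P → g • c = c := by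
  classical
  haveI := Fintype.ofFinite G
  haveI := Fintype.ofFinite {P : Ideal O // P.IsMaximal}
  -- an element congruent to `1` at `P` and to `0` at the other primes
  obtain ⟨e₀, he₀, he₀'⟩ : ∃ e₀ : O, e₀ - 1 ∈ P ∧ ∀ Q : Ideal O, Q.IsMaximal → Q ≠ P → e₀ ∈ Q := by
    have hsup : P ⊔ (⨅ Q ∈ (Finset.univ.filter fun Q : {Q : Ideal O // Q.IsMaximal} => Q.1 ≠ P), Q.1) = ⊤ :=
      Ideal.sup_iInf_eq_top fun Q hQ => Ideal.IsMaximal.coprime_of_ne hP Q.2 (Finset.mem_filter.mp hQ).2.symm
    obtain ⟨a, ha, b, hb, hab⟩ := Submodule.mem_sup.mp (hsup ▸ Submodule.mem_top : (1 : O) ∈ _)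
    refine ⟨b, ?_, fun Q hQ hne => ?_⟩
    · rw [show b - 1 = -a by rw [← hab]; ring]
      exact P.neg_mem ha
    · rw [Submodule.mem_iInf] at hb
      have := hb ⟨Q, hQ⟩
      rw [Submodule.mem_iInf] at this
      exact this (by simp [hne])
  let D := Finset.univ.filter fun g : G => g • P = P
  let e := ∏ g ∈ D, g • e₀
  have he1 : e - 1 ∈ P := by
    rw [← Ideal.Quotient.eq, map_prod]
    refine (Finset.prod_eq_one fun g hg => ?_).trans (map_one _).symm
    rw [← map_one (Ideal.Quotient.mk P), Ideal.Quotient.eq]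
    rw [← smul_one g, ← smul_sub]
    have h := Ideal.smul_mem_pointwise_smul g _ P he₀
    rwa [(Finset.mem_filter.mp hg).2] at h
  have he0 : ∀ Q : Ideal O, Q.IsMaximal → Q ≠ P → e ∈ Q := fun Q hQ hne => by
    rw [show e = _ from (Finset.mul_prod_erase D (fun g => g • e₀) (a := 1) (by simp [D])).symm, one_smul]
    exact Q.mul_mem_right _ (he₀' Q hQ hne)
  have hefix : ∀ h : G, h • P = P → h • e = e := fun h hh => by
    show h • (∏ g ∈ D, g • e₀) = _
    rw [Finset.smul_prod']
    refine Finset.prod_nbij' (fun g => h * g) (fun g => h⁻¹ * g) ?_ ?_ (fun g _ => by simp) (fun g _ => by simp)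
      (fun g _ => by rw [mul_smul])
    · intro g hg
      simp only [D, Finset.mem_filter, Finset.mem_univ, true_and, Finset.mem_coe] at hg ⊢
      rw [mul_smul, hg, hh]
    · intro g hg
      simp only [D, Finset.mem_filter, Finset.mem_univ, true_and, Finset.mem_coe] at hg ⊢
      rw [mul_smul, hg, inv_smul_eq_iff, hh]
  let c := π * e + (1 - e) ^ 2
  refine ⟨c, ?_, fun g hg => ?_⟩
  · have h2 : (1 - e) ^ 2 ∈ P ^ 2 :=
      Ideal.pow_mem_pow (by rw [show 1 - e = -(e - 1) by ring]; exact P.neg_mem he1) 2
    have hcP : c ∈ P :=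
      P.add_mem (P.mul_mem_right _ (hmem P hP).1) (Ideal.pow_le_self two_ne_zero h2)
    have hc2 : c ∉ P ^ 2 := by
      intro hc
      have h3 : π * e ∈ P ^ 2 := by simpa [c] using (P ^ 2).sub_mem hc h2
      have h4 : π * (1 - e) ∈ P ^ 2 := by
        rw [pow_two]
        exact Ideal.mul_mem_mul (hmem P hP).1 (by rw [show 1 - e = -(e - 1) by ring]; exact P.neg_mem he1)
      exact (hmem P hP).2 (by simpa [← mul_add] using (P ^ 2).add_mem h3 h4)
    have hc0 : c ≠ 0 := fun h => hc2 (h ▸ (P ^ 2).zero_mem)
    obtain ⟨J, hJ⟩ : P ∣ Ideal.span {c} := Ideal.dvd_iff_le.mpr ((Ideal.span_singleton_le_iff_mem _).mpr hcP)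
    rcases eq_or_ne J ⊤ with rfl | hJtop
    · rw [hJ, ← Ideal.one_eq_top, mul_one]
    · exfalso
      obtain ⟨Q, hQ, hJQ⟩ := Ideal.exists_le_maximal J hJtop
      have hcQ : c ∈ J * P := by
        rw [mul_comm, ← hJ]
        exact Ideal.mem_span_singleton_self c
      by_cases hne : Q = P
      · subst hne
        exact hc2 (by rw [pow_two]; exact Ideal.mul_mono_left hJQ hcQ)
      · have h1 : c ∈ Q := hJQ (Ideal.mul_le_right (I := P) (J := J) (by rwa [mul_comm]))
        have h5 : π * e ∈ Q := Q.mul_mem_left _ (he0 Q hQ hne)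
        have h6 : (1 - e) ^ 2 ∈ Q := by simpa [c] using Q.sub_mem h1 h5
        have h7 := hQ.isPrime.mem_of_pow_mem 2 h6
        exact hQ.ne_top (Q.eq_top_iff_one.mpr (by simpa using Q.add_mem h7 (he0 Q hQ hne)))
  · simp only [c, smul_add, smul_mul', smul_pow', smul_sub, smul_one, hπ, hefix g hg]

/-- An equivariant retraction of the units of the fraction field killing the units of the ring. -/
theorem exists_retraction [Finite {P : Ideal O // P.IsMaximal}] [Finite G] (π : O)
    (hπ : ∀ g : G, g • π = π) (hmem : ∀ P : Ideal O, P.IsMaximal → π ∈ P ∧ π ∉ P ^ 2)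
    (L : Type u) [Field L] [Algebra O L] [IsFractionRing O L] [MulSemiringAction G L]
    (hcompat : ∀ (g : G) (o : O), g • algebraMap O L o = algebraMap O L (g • o)) :
    ∃ s : Lˣ →* Lˣ, (∀ u : Oˣ, s (Units.map (algebraMap O L).toMonoidHom u) = 1) ∧
      (∀ z, ∃ u : Oˣ, z = Units.map (algebraMap O L).toMonoidHom u * s z) ∧
      ∀ (g : G) (z : Lˣ), s (Units.map (MulDistribMulAction.toMonoidHom L g) z) =
        Units.map (MulDistribMulAction.toMonoidHom L g) (s z) := by
  classical
  haveI := Fintype.ofFinite G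
  let ι := {P : Ideal O // P.IsMaximal}
  haveI := Fintype.ofFinite ι
  have hmax : ∀ (g : G) (P : ι), (g • P.1).IsMaximal := fun g P => by
    rw [Ideal.pointwise_smul_eq_comap]
    haveI := P.2
    exact Ideal.comap_isMaximal_of_surjective (MulSemiringAction.toRingHom G O g⁻¹) fun x =>
      ⟨g • x, inv_smul_smul g x⟩
  let act : G → ι → ι := fun g P => ⟨g • P.1, hmax g P⟩
  -- a representative of every orbit
  let R : ι → ι → Prop := fun P Q => ∃ g, act g P = Q
  have hR : Equivalence R :=
    ⟨fun P => ⟨1, Subtype.ext (one_smul _ _)⟩,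
      fun {P Q} ⟨g, hg⟩ => ⟨g⁻¹, Subtype.ext (by rw [← hg]; exact inv_smul_smul g P.1)⟩,
      fun {P Q R} ⟨g, hg⟩ ⟨h, hh⟩ => ⟨h * g, Subtype.ext (by rw [← hh, ← hg]; exact mul_smul h g P.1)⟩⟩
  let S : Setoid ι := ⟨R, hR⟩
  let rep : ι → ι := fun P => (Quotient.mk S P).out
  have hrep : ∀ P, ∃ g, act g (rep P) = P := fun P => Quotient.exact (Quotient.out_eq (Quotient.mk S P))
  choose gP hgP using hrep
  have hrep' : ∀ g P, rep (act g P) = rep P := fun g P =>
    congrArg Quotient.out (Quotient.sound (show R (act g P) P from hR.symm ⟨g, rfl⟩))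
  choose c hc hcfix using fun P : ι => haveI := P.2; exists_fixed_uniformizer (G := G) π hπ hmem P.1
  let w : ι → O := fun P => gP P • c (rep P)
  have hwspan : ∀ P, Ideal.span {w P} = P.1 := fun P => by
    rw [← congrArg Subtype.val (hgP P)]
    show _ = gP P • (rep P).1
    rw [← hc (rep P), Ideal.pointwise_smul_def, Ideal.map_span, Set.image_singleton]
    rfl
  have hwequiv : ∀ g P, g • w P = w (act g P) := fun g P => by
    have h : ((gP (act g P))⁻¹ * g * gP P) • (rep P).1 = (rep P).1 := by
      have h1 := congrArg Subtype.val (hgP (act g P))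
      rw [hrep'] at h1
      rw [mul_smul, mul_smul, show gP P • (rep P).1 = P.1 from congrArg Subtype.val (hgP P), inv_smul_eq_iff]
      exact h1.symm
    have h2 := hcfix (rep P) _ h
    rw [mul_smul, mul_smul, inv_smul_eq_iff] at h2
    show g • gP P • c (rep P) = gP (act g P) • c (rep (act g P))
    rw [hrep', h2]
  have hw0 : ∀ P, w P ≠ 0 := fun P h => by
    have h' := hwspan P
    rw [h, Ideal.span_singleton_eq_bot.mpr rfl] at h'
    have := (hmem P.1 P.2)
    rw [← h'] at this
    exact this.2 (by rw [Ideal.mem_bot.mp this.1]; exact Ideal.zero_mem _)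
  have hwprime : ∀ P, Prime (w P) := fun P =>
    (Ideal.span_singleton_prime (hw0 P)).mp (by rw [hwspan]; exact P.2.isPrime)
  let W : ι → Lˣ := fun P => Units.mk0 (algebraMap O L (w P))
    (fun h => hw0 P ((map_eq_zero_iff _ (IsFractionRing.injective O L)).mp h))
  let J : Oˣ →* Lˣ := Units.map (algebraMap O L).toMonoidHom
  let Pm : (ι → Multiplicative ℤ) →* Lˣ :=
    { toFun := fun n => ∏ P, W P ^ (n P).toAdd
      map_one' := by simp
      map_mul' := fun m n => by simp [zpow_add, Finset.prod_mul_distrib] }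
  let Φ : Oˣ × (ι → Multiplicative ℤ) →* Lˣ := J.coprod Pm
  have hinj : Function.Injective Φ := by
    refine (injective_iff_map_eq_one Φ).mpr ?_
    rintro ⟨u, n⟩ h
    have hn : n = 1 := by
      let a : ι → ℕ := fun P => (n P).toAdd.toNat
      let b : ι → ℕ := fun P => (-(n P).toAdd).toNat
      have hab : (u : O) * ∏ P, w P ^ a P = ∏ P, w P ^ b P := by
        apply IsFractionRing.injective O L
        have h1 : J u * ∏ P, W P ^ (n P).toAdd = 1 := h
        have h2 : ∀ P, W P ^ (n P).toAdd * W P ^ (b P) = W P ^ (a P) := fun P => by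
          rw [← zpow_natCast, ← zpow_natCast, ← zpow_add]
          congr 1
          simp only [a, b]
          omega
        have h3 : J u * ∏ P, W P ^ a P = ∏ P, W P ^ b P := by
          simp only [← h2, Finset.prod_mul_distrib, ← mul_assoc, h1, one_mul]
        have h4 := congrArg Units.val h3
        simpa [J, W] using h4
      funext P
      by_contra hne
      have hne' : (n P).toAdd ≠ 0 := fun h0 => hne (by simpa using congrArg Multiplicative.ofAdd h0)
      have key : ∀ (x y : ι → ℕ) (v : Oˣ), (v : O) * ∏ P, w P ^ x P = ∏ P, w P ^ y P → x P ≠ 0 → y P ≠ 0 := by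
        intro x y v hxy hx hy
        have hdiv : w P ∣ ∏ Q, w Q ^ y Q := by
          rw [← hxy]
          exact ((dvd_pow_self _ hx).trans (Finset.dvd_prod_of_mem (fun Q => w Q ^ x Q) (Finset.mem_univ P))).mul_left _
        obtain ⟨Q, -, hQ⟩ := (hwprime P).exists_mem_finset_dvd hdiv
        have hQ' := (hwprime P).dvd_of_dvd_pow hQ
        rw [← Ideal.span_singleton_le_span_singleton, hwspan, hwspan] at hQ'
        have : Q = P := Subtype.ext (Q.2.eq_of_le P.2.ne_top hQ')
        subst this
        rw [hy, pow_zero] at hQ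
        exact (hwprime Q).not_unit (isUnit_of_dvd_one hQ)
      rcases lt_or_gt_of_ne hne' with hlt | hgt
      · exact key b a u⁻¹ (by rw [← hab, ← mul_assoc, Units.inv_mul, one_mul]) (by simp only [b]; omega) (by simp only [a]; omega)
      · exact key a b u hab (by simp only [a]; omega) (by simp only [b]; omega)
    subst hn
    have h1 : J u = 1 := by simpa [Φ] using h
    exact Prod.ext (Units.map_injective (IsFractionRing.injective O L) (h1.trans (map_one J).symm)) rfl
  have hsurj : Function.Surjective Φ := by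
    haveI hfin : Finite {P : Ideal O // P.IsMaximal} := inferInstance
    haveI : IsPrincipalIdealRing O := IsPrincipalIdealRing.of_finite_maximals
      (Set.finite_coe_iff.mp (hfin : Finite {P : Ideal O | P.IsMaximal}))
    have key : ∀ o : O, ∀ ho : algebraMap O L o ≠ 0, Units.mk0 _ ho ∈ Φ.range := by
      intro o
      induction o using UniqueFactorizationMonoid.induction_on_prime with
      | h₁ => intro ho; simp at ho
      | h₂ x hx =>
        intro ho
        exact ⟨(hx.unit, 1), Units.ext (by simp [Φ, J])⟩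
      | h₃ x p hx hp ih =>
        intro ho
        haveI : (Ideal.span {p}).IsPrime := (Ideal.span_singleton_prime hp.ne_zero).mpr hp
        have hPmax : (Ideal.span {p}).IsMaximal :=
          Ideal.IsPrime.isMaximal inferInstance (by simpa using hp.ne_zero)
        have hP : Associated (w ⟨_, hPmax⟩) p := Ideal.span_singleton_eq_span_singleton.mp (hwspan ⟨_, hPmax⟩)
        obtain ⟨v, hv⟩ := hP
        rw [map_mul] at ho
        have h1 : Units.mk0 _ (left_ne_zero_of_mul ho) ∈ Φ.range :=
          ⟨(v, Pi.mulSingle (M := fun _ : ι => Multiplicative ℤ) (⟨_, hPmax⟩ : ι) (Multiplicative.ofAdd 1)), Units.ext (by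
            show (((J v * ∏ P, W P ^ (Pi.mulSingle (M := fun _ : ι => Multiplicative ℤ) (⟨_, hPmax⟩ : ι) (Multiplicative.ofAdd (1 : ℤ)) P).toAdd) : Lˣ) : L) = _
            rw [Finset.prod_eq_single (⟨_, hPmax⟩ : ι) (fun Q _ hQ => by simp [Pi.mulSingle_eq_of_ne hQ]) (by simp),
              Pi.mulSingle_eq_same]
            rw [toAdd_ofAdd, zpow_one]
            show algebraMap O L (v : O) * algebraMap O L (w _) = algebraMap O L p
            rw [← map_mul, _root_.mul_comm, hv])⟩
        convert Φ.range.mul_mem h1 (ih (right_ne_zero_of_mul ho)) using 1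
        exact Units.ext (by simp)
    intro z
    obtain ⟨a, b, hb, hab⟩ := IsFractionRing.div_surjective (A := O) (z : L)
    have hb' : algebraMap O L b ≠ 0 := fun h => by rw [h, div_zero] at hab; exact z.ne_zero hab.symm
    have ha' : algebraMap O L a ≠ 0 := fun h => by rw [h, zero_div] at hab; exact z.ne_zero hab.symm
    have h1 := Φ.range.div_mem (key a ha') (key b hb')
    rwa [show Units.mk0 _ ha' / Units.mk0 _ hb' = z from Units.ext (by simp [hab])] at h1
  let e := MulEquiv.ofBijective Φ ⟨hinj, hsurj⟩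
  let s : Lˣ →* Lˣ := Pm.comp ((MonoidHom.snd _ _).comp e.symm.toMonoidHom)
  have hdec : ∀ z, z = J (e.symm z).1 * s z := fun z => (e.apply_symm_apply z).symm
  have huniq : ∀ z u n, z = J u * Pm n → s z = Pm n := fun z u n h => by
    show Pm (e.symm z).2 = _
    rw [show e.symm z = (u, n) from e.symm_apply_eq.mpr h]
  refine ⟨s, fun u => ?_, fun z => ⟨_, hdec z⟩, fun g z => ?_⟩
  · rw [huniq (J u) u 1 (by rw [map_one, mul_one]), map_one]
  · let gu := Units.map (MulDistribMulAction.toMonoidHom L g)
    have hW : ∀ P, gu (W P) = W (act g P) := fun P => Units.ext (by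
      show g • algebraMap O L (w P) = algebraMap O L (w (act g P))
      rw [hcompat, hwequiv])
    let n := (e.symm z).2
    let ν : ι → Multiplicative ℤ := fun P => n (act g⁻¹ P)
    have hsz : gu (s z) = Pm ν := by
      show gu (∏ P, W P ^ (n P).toAdd) = ∏ P, W P ^ (ν P).toAdd
      rw [map_prod]
      refine Fintype.prod_equiv ⟨act g, act g⁻¹, fun P => Subtype.ext (inv_smul_smul g P.1),
        fun P => Subtype.ext (smul_inv_smul g P.1)⟩ _ _ fun P => ?_
      show gu (W P ^ (n P).toAdd) = W (act g P) ^ (n (act g⁻¹ (act g P))).toAdd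
      rw [show act g⁻¹ (act g P) = P from Subtype.ext (inv_smul_smul g P.1), ← hW, map_zpow]
    show s (gu z) = gu (s z)
    rw [hsz]
    refine huniq _ (Units.map (MulDistribMulAction.toMonoidHom O g) (e.symm z).1) ν ?_
    conv_lhs => rw [hdec z, map_mul, hsz]
    congr 1
    exact Units.ext (hcompat g _)

end GrothLib.TorusPts
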